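import Mathlib

/-!
helper872: generic position (S5716 / S5715).  If `y` is diagonal with pairwise distinct ratios of
eigenvalues and `x` has nonzero off-diagonal entries (also its inverse), then every subspace of the
matrix algebra which is stable under conjugation by `x` and `y` consists of scalars or contains all
matrices of trace zero.
-/

set_option autoImplicit false

open Matrix

namespace Cfsg.Agent.H872.GP

section core

variable {K ι : Type*} [Field K] [Fintype ι] [DecidableEq ι]

/-- A diagonal matrix intertwined with a diagonal matrix by a matrix with nonzero off-diagonal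
entries is a scalar. -/
lemma diag_scalar {x : Matrix ι ι K} (hx : ∀ i j, i ≠ j → x i j ≠ 0)
    (h2 : Fintype.card ι = 2 → ∃ i, x i i ≠ 0) {a c : ι → K}
    (h : ∀ i j, x i j * a j = c i * x i j) : ∀ i j, a i = a j := by
  have key : ∀ i j, i ≠ j → a j = c i := by
    intro i j hij
    have := h i j
    rw [mul_comm (c i)] at this
    exact mul_left_cancel₀ (hx i j hij) this
  intro i j
  by_cases hij : i = j
  · rw [hij]
  by_cases h3 : ∃ k, k ≠ i ∧ k ≠ j
  · obtain ⟨k, hki, hkj⟩ := h3
    rw [key k i hki, key k j hkj]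
  · push Not at h3
    have hcard : Fintype.card ι = 2 := by
      have huniv : (Finset.univ : Finset ι) = {i, j} := by
        ext k
        simp only [Finset.mem_univ, Finset.mem_insert, Finset.mem_singleton, true_iff]
        by_cases hk : k = i
        · exact Or.inl hk
        · exact Or.inr (h3 k hk)
      rw [← Finset.card_univ, huniv, Finset.card_pair hij]
    obtain ⟨k, hk⟩ := h2 hcard
    have hk' : a k = c k := by
      have := h k k
      rw [mul_comm (c k)] at this
      exact mul_left_cancel₀ hk this
    by_cases hki : k = i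
    · subst hki
      -- a k = c k = a j
      rw [hk', key k j hij]
    · have hkj := h3 k hki
      subst hkj
      rw [hk', key k i hki]

omit [Fintype ι] [DecidableEq ι] in
/-- Polynomials in the weight operator preserve `W`. -/
lemma poly_mem {W : Submodule K (Matrix ι ι K)} {μ : ι → ι → K}
    (hy : ∀ A ∈ W, (Matrix.of fun i j => μ i j * A i j) ∈ W) (P : Polynomial K)
    {A : Matrix ι ι K} (hA : A ∈ W) : (Matrix.of fun i j => P.eval (μ i j) * A i j) ∈ W := by
  induction P using Polynomial.induction_on' with
  | add P Q hP hQ =>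
    have : (Matrix.of fun i j => (P + Q).eval (μ i j) * A i j)
        = (Matrix.of fun i j => P.eval (μ i j) * A i j) + (Matrix.of fun i j => Q.eval (μ i j) * A i j) := by
      ext i j
      simp [Polynomial.eval_add, add_mul]
    rw [this]
    exact W.add_mem hP hQ
  | monomial n c =>
    have hn : ∀ n : ℕ, (Matrix.of fun i j => (μ i j) ^ n * A i j) ∈ W := by
      intro n
      induction n with
      | zero =>
        have : (Matrix.of fun i j => (μ i j) ^ 0 * A i j) = A := by
          ext i j
          simp
        rw [this]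
        exact hA
      | succ n ih =>
        have := hy _ ih
        have h2 : (Matrix.of fun i j => μ i j * (Matrix.of fun i j => (μ i j) ^ n * A i j) i j)
            = (Matrix.of fun i j => (μ i j) ^ (n + 1) * A i j) := by
          ext i j
          simp only [Matrix.of_apply]
          ring
        rw [h2] at this
        exact this
    have : (Matrix.of fun i j => (Polynomial.monomial n c).eval (μ i j) * A i j)
        = c • (Matrix.of fun i j => (μ i j) ^ n * A i j) := by
      ext i j
      simp [Polynomial.eval_monomial, mul_assoc]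
    rw [this]
    exact W.smul_mem _ (hn n)

/-- The weight spaces of multiplicity one. -/
lemma single_mem {W : Submodule K (Matrix ι ι K)} {μ : ι → ι → K}
    (hy : ∀ A ∈ W, (Matrix.of fun i j => μ i j * A i j) ∈ W) {i j : ι}
    (hμ : ∀ k l, (k, l) ≠ (i, j) → μ k l ≠ μ i j) {A : Matrix ι ι K} (hA : A ∈ W) (h : A i j ≠ 0) :
    Matrix.single i j (1 : K) ∈ W := by
  classical
  set S : Finset K := (Finset.univ.image fun kl : ι × ι => μ kl.1 kl.2).erase (μ i j) with hS
  set P : Polynomial K := ∏ s ∈ S, (Polynomial.X - Polynomial.C s) with hP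
  have hP0 : P.eval (μ i j) ≠ 0 := by
    rw [hP, Polynomial.eval_prod, Finset.prod_ne_zero_iff]
    intro s hs
    rw [Polynomial.eval_sub, Polynomial.eval_X, Polynomial.eval_C, sub_ne_zero]
    exact (Finset.ne_of_mem_erase hs).symm
  have hP1 : ∀ k l, (k, l) ≠ (i, j) → P.eval (μ k l) = 0 := by
    intro k l hkl
    rw [hP, Polynomial.eval_prod]
    refine Finset.prod_eq_zero (i := μ k l) ?_ (by simp)
    rw [hS, Finset.mem_erase]
    exact ⟨hμ k l hkl, Finset.mem_image.2 ⟨(k, l), Finset.mem_univ _, rfl⟩⟩
  have hm := poly_mem hy P hA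
  have heq : (Matrix.of fun i j => P.eval (μ i j) * A i j)
      = (P.eval (μ i j) * A i j) • Matrix.single i j (1 : K) := by
    ext k l
    simp only [Matrix.of_apply, Matrix.smul_apply, Matrix.single_apply, smul_eq_mul]
    by_cases hkl : i = k ∧ j = l
    · obtain ⟨rfl, rfl⟩ := hkl
      simp
    · rw [if_neg hkl, hP1 k l (fun h => hkl (by simp only [Prod.mk.injEq] at h; exact ⟨h.1.symm, h.2.symm⟩))]
      simp
  rw [heq] at hm
  exact (W.smul_mem_iff (mul_ne_zero hP0 h)).1 hm

theorem ad_sl {l : ι → K}
    (hr : ∀ i j k m, i ≠ j → (k, m) ≠ (i, j) → l k * (l m)⁻¹ ≠ l i * (l j)⁻¹)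
    {x x' : Matrix ι ι K} (hxx : x * x' = 1)
    (hx : ∀ i j, i ≠ j → x i j ≠ 0) (hx' : ∀ i j, i ≠ j → x' i j ≠ 0)
    (h2 : Fintype.card ι = 2 → ∃ i, x i i ≠ 0) (W : Submodule K (Matrix ι ι K))
    (hy : ∀ A ∈ W, Matrix.diagonal l * A * Matrix.diagonal (fun i => (l i)⁻¹) ∈ W)
    (hxW : ∀ A ∈ W, x * A * x' ∈ W) :
    (∀ A ∈ W, ∃ c : K, A = c • (1 : Matrix ι ι K)) ∨ (∀ A : Matrix ι ι K, A.trace = 0 → A ∈ W) := by
  classical
  have hxx' : x' * x = 1 := mul_eq_one_comm.1 hxx
  have hy' : ∀ A ∈ W, (Matrix.of fun i j => (l i * (l j)⁻¹) * A i j) ∈ W := by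
    intro A hA
    have := hy A hA
    convert this using 1
    ext i j
    rw [Matrix.of_apply, Matrix.mul_diagonal, Matrix.diagonal_mul]
    ring
  by_cases hdiag : ∀ A ∈ W, ∀ i j, i ≠ j → A i j = 0
  · left
    intro A hA
    have hA' := hxW A hA
    have hC := hdiag _ hA'
    have hAd := hdiag _ hA
    set C := x * A * x' with hCdef
    have hCx : C * x = x * A := by
      rw [hCdef, mul_assoc, hxx', mul_one]
    have hcomp : ∀ i j, x i j * A j j = C i i * x i j := by
      intro i j
      have h1 : (C * x) i j = C i i * x i j := by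
        rw [Matrix.mul_apply, Finset.sum_eq_single i]
        · intro b _ hb
          rw [hC i b (Ne.symm hb), zero_mul]
        · intro h; exact absurd (Finset.mem_univ _) h
      have h3 : (x * A) i j = x i j * A j j := by
        rw [Matrix.mul_apply, Finset.sum_eq_single j]
        · intro b _ hb
          rw [hAd b j hb, mul_zero]
        · intro h; exact absurd (Finset.mem_univ _) h
      rw [← h3, ← hCx, h1]
    have hsc := diag_scalar hx h2 hcomp
    rcases isEmpty_or_nonempty ι with he | ⟨⟨i0⟩⟩
    · exact ⟨0, by ext i; exact (he.false i).elim⟩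
    · refine ⟨A i0 i0, ?_⟩
      ext i j
      rw [Matrix.smul_apply, Matrix.one_apply]
      by_cases hij : i = j
      · subst hij
        rw [if_pos rfl, smul_eq_mul, mul_one, hsc i i0]
      · rw [if_neg hij, hAd i j hij, smul_zero]
  · right
    push Not at hdiag
    obtain ⟨A, hA, i, j, hij, hAij⟩ := hdiag
    obtain ⟨i0, hi0⟩ : ∃ i0, i0 = i := ⟨i, rfl⟩
    obtain ⟨j0, hj0⟩ : ∃ j0, j0 = j := ⟨j, rfl⟩
    have hij0 : i0 ≠ j0 := by rw [hi0, hj0]; exact hij
    have hs : Matrix.single i j (1 : K) ∈ W :=
      single_mem hy' (fun k m hkm => hr i j k m hij hkm) hA hAij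
    have step : ∀ i j k m, i ≠ j → k ≠ m → k ≠ i → m ≠ j → Matrix.single i j (1 : K) ∈ W →
        Matrix.single k m (1 : K) ∈ W := by
      intro i j k m hij hkm hki hmj h
      have h1 := hxW _ h
      refine single_mem hy' (fun a b hab => hr k m a b hkm hab) h1 ?_
      have : (x * Matrix.single i j (1 : K) * x') k m = x k i * x' j m := by
        rw [Matrix.mul_apply, Finset.sum_eq_single j]
        · rw [Matrix.mul_apply, Finset.sum_eq_single i]
          · simp
          · intro b _ hb
            simp [hb.symm]
          · intro h; exact absurd (Finset.mem_univ _) h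
        · intro b _ hb
          rw [Matrix.mul_apply, Finset.sum_eq_zero, zero_mul]
          intro c _
          simp [hb.symm]
        · intro h; exact absurd (Finset.mem_univ _) h
      rw [this]
      exact mul_ne_zero (hx k i hki) (hx' j m hmj.symm)
    have hall : ∀ a b, a ≠ b → Matrix.single a b (1 : K) ∈ W := by
      have hji : Matrix.single j i (1 : K) ∈ W := step i j j i hij hij.symm hij.symm hij hs
      intro a b hab
      by_cases h1 : a = i
      · by_cases h3 : b = j
        · rw [h1, h3]; exact hs
        · exact step j i a b hij.symm hab (by rw [h1]; exact hij) (by rintro rfl; exact hab h1) hji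
      · by_cases h3 : b = j
        · exact step j i a b hij.symm hab (by rintro rfl; exact hab h3.symm) (by rw [h3]; exact hij.symm) hji
        · exact step i j a b hij hab h1 h3 hs
    intro B hB
    by_contra hBW
    obtain ⟨f, hfB, hfW⟩ := Submodule.exists_dual_map_eq_bot_of_notMem (p := W) hBW inferInstance
    have hf0 : ∀ A ∈ W, f A = 0 := by
      intro A hA
      have hle : W ≤ LinearMap.ker f := LinearMap.le_ker_iff_map.2 hfW
      exact LinearMap.mem_ker.1 (hle hA)
    -- expansion of f
    have hfexp : ∀ A : Matrix ι ι K, f A = ∑ i, ∑ j, A i j * f (Matrix.single i j 1) := by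
      intro A
      conv_lhs => rw [Matrix.matrix_eq_sum_single A]
      rw [map_sum]
      refine Finset.sum_congr rfl fun a _ => ?_
      rw [map_sum]
      refine Finset.sum_congr rfl fun b _ => ?_
      have : Matrix.single a b (A a b) = A a b • Matrix.single a b (1 : K) := by
        rw [Matrix.smul_single, smul_eq_mul, mul_one]
      rw [this, map_smul, smul_eq_mul]
    have hfd : ∀ A : Matrix ι ι K, f A = ∑ i, A i i * f (Matrix.single i i 1) := by
      intro A
      rw [hfexp]
      refine Finset.sum_congr rfl fun a _ => ?_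
      rw [Finset.sum_eq_single a]
      · intro b _ hb
        rw [hf0 _ (hall a b hb.symm), mul_zero]
      · intro h; exact absurd (Finset.mem_univ _) h
    set c : ι → K := fun i => f (Matrix.single i i 1) with hc
    -- C x = x C'
    have hoff : ∀ k m, k ≠ m → (x' * Matrix.diagonal c * x) m k = 0 := by
      intro k m hkm
      have h1 := hf0 _ (hxW _ (hall k m hkm))
      rw [hfd] at h1
      have : (x' * Matrix.diagonal c * x) m k
          = ∑ i, (x * Matrix.single k m (1 : K) * x') i i * c i := by
        rw [Matrix.mul_apply]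
        refine Finset.sum_congr rfl fun a _ => ?_
        rw [Matrix.mul_diagonal]
        have h3 : (x * Matrix.single k m (1 : K) * x') a a = x a k * x' m a := by
          rw [Matrix.mul_apply, Finset.sum_eq_single m]
          · rw [Matrix.mul_apply, Finset.sum_eq_single k]
            · simp
            · intro b _ hb
              simp [hb.symm]
            · intro h; exact absurd (Finset.mem_univ _) h
          · intro b _ hb
            rw [Matrix.mul_apply, Finset.sum_eq_zero, zero_mul]
            intro c _
            simp [hb.symm]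
          · intro h; exact absurd (Finset.mem_univ _) h
        rw [h3]
        ring
      rw [this]
      exact h1
    set D := x' * Matrix.diagonal c * x with hD
    have hxD : x * D = Matrix.diagonal c * x := by
      rw [hD, ← mul_assoc, ← mul_assoc, hxx, one_mul]
    have hcomp : ∀ i j, x i j * D j j = c i * x i j := by
      intro i j
      have h3 : (x * D) i j = x i j * D j j := by
        rw [Matrix.mul_apply, Finset.sum_eq_single j]
        · intro b _ hb
          rw [hoff j b hb.symm, mul_zero]
        · intro h; exact absurd (Finset.mem_univ _) h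
      rw [← h3, hxD, Matrix.diagonal_mul]
    have hDeq := diag_scalar hx h2 hcomp
    have hceq : ∀ a b, c a = c b := by
      intro a b
      have h4 : ∀ i, ∃ j, c i = D j j := by
        intro i
        by_cases h5 : ∃ j, j ≠ i
        · obtain ⟨j, hj⟩ := h5
          refine ⟨j, ?_⟩
          have := hcomp i j
          rw [mul_comm] at this
          exact (mul_right_cancel₀ (hx i j hj.symm) this).symm
        · push Not at h5
          exact absurd ((h5 i0).trans (h5 j0).symm) hij0
      obtain ⟨j1, h1⟩ := h4 a
      obtain ⟨j2, h3⟩ := h4 b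
      rw [h1, h3, hDeq j1 j2]
    apply hfB
    rw [hfd]
    have : ∑ a, B a a * c a = (∑ a, B a a) * c i := by
      rw [Finset.sum_mul]
      exact Finset.sum_congr rfl fun a _ => by rw [hceq a i]
    rw [this]
    have hB' : ∑ a, B a a = 0 := hB
    rw [hB', zero_mul]

end core

section descent

variable {F K ι : Type*} [Field F] [Field K] [Algebra F K] [Fintype ι] [DecidableEq ι]

/-- `x` is in generic position with respect to `y`: over `K` the columns of `h` are eigenvectors of
`y` with eigenvalues `l`, the ratios of the eigenvalues are distinct and the matrices of `x` and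
`x⁻¹` with respect to the eigenbasis have nonzero off-diagonal entries. -/
structure GPos (x y : GL ι F) (h : GL ι K) (l : ι → K) : Prop where
  diag : (y : Matrix ι ι F).map (algebraMap F K) * (h : Matrix ι ι K)
    = (h : Matrix ι ι K) * Matrix.diagonal l
  ratio : ∀ i j k m, i ≠ j → (k, m) ≠ (i, j) → l k * (l m)⁻¹ ≠ l i * (l j)⁻¹
  off : ∀ i j, i ≠ j → (((h⁻¹ : GL ι K) : Matrix ι ι K) * (x : Matrix ι ι F).map (algebraMap F K)
    * (h : Matrix ι ι K)) i j ≠ 0
  off' : ∀ i j, i ≠ j → (((h⁻¹ : GL ι K) : Matrix ι ι K)
    * ((x⁻¹ : GL ι F) : Matrix ι ι F).map (algebraMap F K) * (h : Matrix ι ι K)) i j ≠ 0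
  two : Fintype.card ι = 2 → ∃ i, (((h⁻¹ : GL ι K) : Matrix ι ι K)
    * (x : Matrix ι ι F).map (algebraMap F K) * (h : Matrix ι ι K)) i i ≠ 0

/-- A matrix over `F` in the `K`-span of `W` is in `W`. -/
lemma mem_of_span {W : Submodule F (Matrix ι ι F)} {A : Matrix ι ι F}
    (hA : A.map (algebraMap F K) ∈ Submodule.span K ((fun B : Matrix ι ι F => B.map (algebraMap F K)) '' W)) :
    A ∈ W := by
  classical
  by_contra hAW
  obtain ⟨f, hfA, hfW⟩ := Submodule.exists_dual_map_eq_bot_of_notMem (p := W) hAW inferInstance
  have hle : W ≤ LinearMap.ker f := LinearMap.le_ker_iff_map.2 hfW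
  have hfexp : ∀ A : Matrix ι ι F, f A = ∑ i, ∑ j, A i j * f (Matrix.single i j 1) := by
    intro A
    conv_lhs => rw [Matrix.matrix_eq_sum_single A]
    rw [map_sum]
    refine Finset.sum_congr rfl fun a _ => ?_
    rw [map_sum]
    refine Finset.sum_congr rfl fun b _ => ?_
    have : Matrix.single a b (A a b) = A a b • Matrix.single a b (1 : F) := by
      rw [Matrix.smul_single, smul_eq_mul, mul_one]
    rw [this, map_smul, smul_eq_mul]
  set g : Matrix ι ι K →ₗ[K] K :=
    { toFun := fun B => ∑ i, ∑ j, B i j * algebraMap F K (f (Matrix.single i j 1))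
      map_add' := by
        intro B C
        rw [← Finset.sum_add_distrib]
        refine Finset.sum_congr rfl fun i _ => ?_
        rw [← Finset.sum_add_distrib]
        exact Finset.sum_congr rfl fun j _ => by rw [Matrix.add_apply, add_mul]
      map_smul' := by
        intro c B
        rw [RingHom.id_apply, smul_eq_mul, Finset.mul_sum]
        refine Finset.sum_congr rfl fun i _ => ?_
        rw [Finset.mul_sum]
        exact Finset.sum_congr rfl fun j _ => by rw [Matrix.smul_apply, smul_eq_mul, mul_assoc] } with hg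
  have hgf : ∀ B : Matrix ι ι F, g (B.map (algebraMap F K)) = algebraMap F K (f B) := by
    intro B
    rw [hfexp B, map_sum]
    change ∑ i, ∑ j, (B.map (algebraMap F K)) i j * algebraMap F K (f (Matrix.single i j 1)) = _
    refine Finset.sum_congr rfl fun i _ => ?_
    rw [map_sum]
    exact Finset.sum_congr rfl fun j _ => by rw [map_mul, Matrix.map_apply]
  have hker : Submodule.span K ((fun B : Matrix ι ι F => B.map (algebraMap F K)) '' W) ≤ LinearMap.ker g := by
    rw [Submodule.span_le]
    rintro _ ⟨B, hB, rfl⟩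
    change g (B.map (algebraMap F K)) = 0
    rw [hgf, LinearMap.mem_ker.1 (hle hB), map_zero]
  have h1 := hker hA
  rw [LinearMap.mem_ker, hgf, map_eq_zero_iff _ (algebraMap F K).injective] at h1
  exact hfA h1

/-- Generic position: every invariant subspace of the matrix algebra consists of scalars or
contains all matrices of trace zero. -/
theorem GPos.ad {x y : GL ι F} {h : GL ι K} {l : ι → K} (H : GPos x y h l)
    (W : Submodule F (Matrix ι ι F))
    (hx : ∀ A ∈ W, (x : Matrix ι ι F) * A * ((x⁻¹ : GL ι F) : Matrix ι ι F) ∈ W)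
    (hy : ∀ A ∈ W, (y : Matrix ι ι F) * A * ((y⁻¹ : GL ι F) : Matrix ι ι F) ∈ W) :
    (∀ A ∈ W, ∃ c : F, A = c • (1 : Matrix ι ι F)) ∨ (∀ A : Matrix ι ι F, A.trace = 0 → A ∈ W) := by
  classical
  set φ : Matrix ι ι F → Matrix ι ι K := fun A => A.map (algebraMap F K) with hφ
  have hφm : ∀ A B, φ (A * B) = φ A * φ B := fun A B => Matrix.map_mul
  have hφ1 : φ 1 = 1 := Matrix.map_one _ (map_zero _) (map_one _)
  set hm : Matrix ι ι K := (h : Matrix ι ι K) with hhm
  set hi : Matrix ι ι K := ((h⁻¹ : GL ι K) : Matrix ι ι K) with hhi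
  have hmi : hm * hi = 1 := by rw [hhm, hhi, ← Units.val_mul, mul_inv_cancel, Units.val_one]
  have him : hi * hm = 1 := by rw [hhm, hhi, ← Units.val_mul, inv_mul_cancel, Units.val_one]
  have hl : ∀ i, l i ≠ 0 := by
    intro i hli
    have h1 := congrArg Matrix.det H.diag
    rw [Matrix.det_mul, Matrix.det_mul, Matrix.det_diagonal, Finset.prod_eq_zero (Finset.mem_univ i) hli,
      mul_zero] at h1
    rcases mul_eq_zero.1 h1 with h2 | h2
    · have h3 : ((y : Matrix ι ι F).map (algebraMap F K)).det = algebraMap F K (y : Matrix ι ι F).det :=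
        (RingHom.map_det (algebraMap F K) (y : Matrix ι ι F)).symm
      rw [h3, map_eq_zero_iff _ (algebraMap F K).injective] at h2
      exact ((Matrix.isUnit_iff_isUnit_det _).1 y.isUnit).ne_zero h2
    · exact ((Matrix.isUnit_iff_isUnit_det _).1 h.isUnit).ne_zero h2
  set L := Matrix.diagonal l with hL
  set L' := Matrix.diagonal (fun i => (l i)⁻¹) with hL'
  have hLL : L * L' = 1 := by
    rw [hL, hL', Matrix.diagonal_mul_diagonal]
    rw [← Matrix.diagonal_one]
    congr 1
    funext i
    exact mul_inv_cancel₀ (hl i)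
  have hyL : hi * φ (y : Matrix ι ι F) = L * hi := by
    have h1 := H.diag
    have h2 : hi * (φ (y : Matrix ι ι F) * hm) * hi = hi * (hm * L) * hi := by rw [← hhm] at h1; rw [h1]
    calc hi * φ (y : Matrix ι ι F) = hi * (φ (y : Matrix ι ι F) * hm) * hi := by
            rw [mul_assoc, mul_assoc, hmi, mul_one]
      _ = hi * (hm * L) * hi := h2
      _ = L * hi := by rw [← mul_assoc hi, him, one_mul]
  have hyy : φ (y : Matrix ι ι F) * φ ((y⁻¹ : GL ι F) : Matrix ι ι F) = 1 := by
    rw [← hφm, ← Units.val_mul, mul_inv_cancel, Units.val_one, hφ1]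
  have hyL' : φ ((y⁻¹ : GL ι F) : Matrix ι ι F) * hm = hm * L' := by
    have hyy' : φ ((y⁻¹ : GL ι F) : Matrix ι ι F) * φ (y : Matrix ι ι F) = 1 := mul_eq_one_comm.1 hyy
    have h1 : φ (y : Matrix ι ι F) * hm = hm * L := H.diag
    calc φ ((y⁻¹ : GL ι F) : Matrix ι ι F) * hm
        = φ ((y⁻¹ : GL ι F) : Matrix ι ι F) * (hm * (L * L')) := by rw [hLL, mul_one]
      _ = φ ((y⁻¹ : GL ι F) : Matrix ι ι F) * ((hm * L) * L') := by rw [mul_assoc hm]
      _ = φ ((y⁻¹ : GL ι F) : Matrix ι ι F) * ((φ (y : Matrix ι ι F) * hm) * L') := by rw [h1]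
      _ = hm * L' := by rw [mul_assoc (φ (y : Matrix ι ι F)), ← mul_assoc, hyy', one_mul]
  set X := hi * φ (x : Matrix ι ι F) * hm with hX
  set X' := hi * φ ((x⁻¹ : GL ι F) : Matrix ι ι F) * hm with hX'
  have hXX : X * X' = 1 := by
    calc X * X' = hi * φ (x : Matrix ι ι F) * (hm * hi) * φ ((x⁻¹ : GL ι F) : Matrix ι ι F) * hm := by
            rw [hX, hX']; noncomm_ring
      _ = hi * (φ (x : Matrix ι ι F) * φ ((x⁻¹ : GL ι F) : Matrix ι ι F)) * hm := by
            rw [hmi]; noncomm_ring
      _ = 1 := by
            rw [← hφm, ← Units.val_mul, mul_inv_cancel, Units.val_one, hφ1, mul_one, him]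
  set WK : Submodule K (Matrix ι ι K) :=
    Submodule.span K ((fun A : Matrix ι ι F => hi * φ A * hm) '' W) with hWK
  have hstabY : ∀ A ∈ WK, L * A * L' ∈ WK := by
    intro A hA
    induction hA using Submodule.span_induction with
    | mem A hA =>
      obtain ⟨B, hB, rfl⟩ := hA
      refine Submodule.subset_span ⟨_, hy B hB, ?_⟩
      change hi * φ ((y : Matrix ι ι F) * B * ((y⁻¹ : GL ι F) : Matrix ι ι F)) * hm = L * (hi * φ B * hm) * L'
      rw [hφm, hφm]
      calc hi * (φ (y : Matrix ι ι F) * φ B * φ ((y⁻¹ : GL ι F) : Matrix ι ι F)) * hm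
          = (hi * φ (y : Matrix ι ι F)) * φ B * (φ ((y⁻¹ : GL ι F) : Matrix ι ι F) * hm) := by noncomm_ring
        _ = (L * hi) * φ B * (hm * L') := by rw [hyL, hyL']
        _ = L * (hi * φ B * hm) * L' := by noncomm_ring
    | zero => rw [mul_zero, zero_mul]; exact WK.zero_mem
    | add A B _ _ hA hB => rw [mul_add, add_mul]; exact WK.add_mem hA hB
    | smul c A _ hA => rw [Matrix.mul_smul, Matrix.smul_mul]; exact WK.smul_mem _ hA
  have hstabX : ∀ A ∈ WK, X * A * X' ∈ WK := by
    intro A hA
    induction hA using Submodule.span_induction with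
    | mem A hA =>
      obtain ⟨B, hB, rfl⟩ := hA
      refine Submodule.subset_span ⟨_, hx B hB, ?_⟩
      change hi * φ ((x : Matrix ι ι F) * B * ((x⁻¹ : GL ι F) : Matrix ι ι F)) * hm = X * (hi * φ B * hm) * X'
      rw [hφm, hφm]
      calc hi * (φ (x : Matrix ι ι F) * φ B * φ ((x⁻¹ : GL ι F) : Matrix ι ι F)) * hm
          = hi * φ (x : Matrix ι ι F) * 1 * φ B * 1 * φ ((x⁻¹ : GL ι F) : Matrix ι ι F) * hm := by noncomm_ring
        _ = hi * φ (x : Matrix ι ι F) * (hm * hi) * φ B * (hm * hi) * φ ((x⁻¹ : GL ι F) : Matrix ι ι F) * hm := by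
            rw [hmi]
        _ = X * (hi * φ B * hm) * X' := by rw [hX, hX']; noncomm_ring
    | zero => rw [mul_zero, zero_mul]; exact WK.zero_mem
    | add A B _ _ hA hB => rw [mul_add, add_mul]; exact WK.add_mem hA hB
    | smul c A _ hA => rw [Matrix.mul_smul, Matrix.smul_mul]; exact WK.smul_mem _ hA
  rcases ad_sl H.ratio hXX H.off H.off' H.two WK hstabY hstabX with hs | hs
  · left
    intro A hA
    obtain ⟨c, hc⟩ := hs _ (Submodule.subset_span ⟨A, hA, rfl⟩)
    replace hc : hi * φ A * hm = c • (1 : Matrix ι ι K) := hc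
    have hA' : φ A = c • (1 : Matrix ι ι K) := by
      calc φ A = (hm * hi) * φ A * (hm * hi) := by rw [hmi, one_mul, mul_one]
        _ = hm * (hi * φ A * hm) * hi := by noncomm_ring
        _ = hm * (c • (1 : Matrix ι ι K)) * hi := by rw [hc]
        _ = c • (1 : Matrix ι ι K) := by rw [Matrix.mul_smul, Matrix.smul_mul, mul_one, hmi]
    rcases isEmpty_or_nonempty ι with he | ⟨⟨i0⟩⟩
    · exact ⟨0, by ext i; exact (he.false i).elim⟩
    · refine ⟨A i0 i0, ?_⟩
      ext i j
      have h1 : algebraMap F K (A i j) = (c • (1 : Matrix ι ι K)) i j := congrFun (congrFun hA' i) j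
      have h0 : algebraMap F K (A i0 i0) = (c • (1 : Matrix ι ι K)) i0 i0 :=
        congrFun (congrFun hA' i0) i0
      rw [Matrix.smul_apply, Matrix.one_apply, smul_eq_mul] at h1 h0
      rw [if_pos rfl, mul_one] at h0
      rw [Matrix.smul_apply, Matrix.one_apply, smul_eq_mul]
      by_cases hij : i = j
      · rw [if_pos hij, mul_one] at h1 ⊢
        exact (algebraMap F K).injective (by rw [h1, h0])
      · rw [if_neg hij, mul_zero] at h1 ⊢
        exact (algebraMap F K).injective (by rw [h1, map_zero])
  · right
    intro A hA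
    have h1 : hi * φ A * hm ∈ WK := by
      apply hs
      rw [Matrix.trace_mul_comm, ← mul_assoc, hmi, one_mul, hφ]
      change (A.map (algebraMap F K)).trace = 0
      have : (A.map (algebraMap F K)).trace = algebraMap F K A.trace := by
        rw [Matrix.trace, Matrix.trace, map_sum]
        rfl
      rw [this, hA, map_zero]
    have h2 : ∀ B ∈ WK, hm * B * hi ∈ Submodule.span K (φ '' W) := by
      intro B hB
      induction hB using Submodule.span_induction with
      | mem B hB =>
        obtain ⟨C, hC, rfl⟩ := hB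
        refine Submodule.subset_span ⟨C, hC, ?_⟩
        change φ C = hm * (hi * φ C * hm) * hi
        calc φ C = (hm * hi) * φ C * (hm * hi) := by rw [hmi, one_mul, mul_one]
          _ = hm * (hi * φ C * hm) * hi := by noncomm_ring
      | zero => rw [mul_zero, zero_mul]; exact Submodule.zero_mem _
      | add A B _ _ hA hB => rw [mul_add, add_mul]; exact Submodule.add_mem _ hA hB
      | smul c A _ hA => rw [Matrix.mul_smul, Matrix.smul_mul]; exact Submodule.smul_mem _ _ hA
    have h3 := h2 _ h1
    have h4 : hm * (hi * φ A * hm) * hi = φ A := by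
      calc hm * (hi * φ A * hm) * hi = (hm * hi) * φ A * (hm * hi) := by noncomm_ring
        _ = φ A := by rw [hmi, one_mul, mul_one]
    rw [h4] at h3
    exact mem_of_span h3

end descent

end Cfsg.Agent.H872.GP
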