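import Cfsg.Prelude.Def_GeometricClasses
import Cfsg.Agent.H872.GP.Ad

/-!
helper872: generic position pairs lie in no member of the geometric classes 1, 2, 3, 4, 7, 8
(symplectic and quadratic) of the linear groups.
-/

set_option autoImplicit false

open Matrix

namespace Cfsg.Agent.H872.GP

variable {F K : Type*} {ι : Type} [Field F] [Field K] [Algebra F K] [Fintype ι] [DecidableEq ι]

omit [DecidableEq ι] in
lemma vmv (u v w : ι → F) : Matrix.vecMulVec u v *ᵥ w = (v ⬝ᵥ w) • u := by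
  rw [Matrix.vecMulVec_mulVec]
  ext i
  simp [mul_comm]

lemma gl_mul_inv (g : GL ι F) : (g : Matrix ι ι F) * ((g⁻¹ : GL ι F) : Matrix ι ι F) = 1 := by
  rw [← Units.val_mul, mul_inv_cancel, Units.val_one]

lemma gl_inv_mul (g : GL ι F) : ((g⁻¹ : GL ι F) : Matrix ι ι F) * (g : Matrix ι ι F) = 1 := by
  rw [← Units.val_mul, inv_mul_cancel, Units.val_one]

/-- The two alternatives of `GPos.ad` for a subspace stable under a subgroup containing `x`, `y`. -/
theorem GPos.no_proper {x y : GL ι F} {h : GL ι K} {l : ι → K} (H : GPos x y h l)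
    {M : Subgroup (GL ι F)} (hx : x ∈ M) (hy : y ∈ M) (W : Submodule F (Matrix ι ι F))
    (hW : ∀ g ∈ M, ∀ A ∈ W, (g : Matrix ι ι F) * A * ((g⁻¹ : GL ι F) : Matrix ι ι F) ∈ W)
    (h1 : ∃ A ∈ W, ∀ c : F, A ≠ c • (1 : Matrix ι ι F))
    (h2 : ∃ A : Matrix ι ι F, A.trace = 0 ∧ A ∉ W) : False := by
  obtain ⟨A, hA, hAc⟩ := h1
  obtain ⟨B, hB, hBW⟩ := h2
  rcases H.ad W (hW x hx) (hW y hy) with h3 | h3
  · obtain ⟨c, hc⟩ := h3 A hA
    exact hAc c hc
  · exact hBW (h3 B hB)

/-- Rank one matrices. -/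
lemma exists_rank_one {v w : ι → F} (h : LinearIndependent F ![v, w]) :
    ∃ A : Matrix ι ι F, A.trace = 0 ∧ A *ᵥ v = w := by
  classical
  -- a functional with f v = 1, f w = 0
  obtain ⟨f, hf⟩ : ∃ f : (ι → F) →ₗ[F] F, f v = 1 ∧ f w = 0 := by
    have hnot : v ∉ Submodule.span F {w} := by
      intro hv
      have := (LinearIndependent.pair_iff.1 h)
      obtain ⟨a, ha⟩ := Submodule.mem_span_singleton.1 hv
      have h3 := this (-1) a (by rw [ha, neg_smul, one_smul, neg_add_cancel])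
      simp at h3
    obtain ⟨f, hf, hf'⟩ := Submodule.exists_dual_map_eq_bot_of_notMem (p := Submodule.span F {w}) hnot
      inferInstance
    have hle : Submodule.span F {w} ≤ LinearMap.ker f := LinearMap.le_ker_iff_map.2 hf'
    refine ⟨(f v)⁻¹ • f, ?_, ?_⟩
    · rw [LinearMap.smul_apply, smul_eq_mul, inv_mul_cancel₀ hf]
    · rw [LinearMap.smul_apply, LinearMap.mem_ker.1 (hle (Submodule.mem_span_singleton_self w)), smul_zero]
  set c : ι → F := fun i => f (Pi.single i 1) with hc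
  have hfc : ∀ u : ι → F, f u = c ⬝ᵥ u := by
    intro u
    conv_lhs => rw [pi_eq_sum_univ' u]
    rw [map_sum, dotProduct]
    refine Finset.sum_congr rfl fun i _ => ?_
    rw [map_smul, smul_eq_mul, mul_comm]
  refine ⟨Matrix.vecMulVec w c, ?_, ?_⟩
  · rw [Matrix.trace_vecMulVec, dotProduct_comm, ← hfc]
    exact hf.2
  · rw [vmv, ← hfc, hf.1, one_smul]

/-- Families of subspaces (classes 1 and 2). -/
theorem GPos.no_family {x y : GL ι F} {h : GL ι K} {l : ι → K} (H : GPos x y h l)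
    {κ : Type*} (D : κ → Submodule F (ι → F)) {M : Subgroup (GL ι F)} (hx : x ∈ M) (hy : y ∈ M)
    (hM : ∀ g ∈ M, ∀ i, ∃ j, (D j).map (Matrix.toLin' (g : Matrix ι ι F)) = D i)
    (h1 : ∃ A : Matrix ι ι F, (∀ i, ∀ v ∈ D i, A *ᵥ v ∈ D i) ∧ ∀ c : F, A ≠ c • (1 : Matrix ι ι F))
    (h2 : ∃ i, D i ≠ ⊥ ∧ D i ≠ ⊤) : False := by
  set W : Submodule F (Matrix ι ι F) :=
    { carrier := {A | ∀ i, ∀ v ∈ D i, A *ᵥ v ∈ D i}
      add_mem' := fun {A B} hA hB i v hv => by
        rw [Matrix.add_mulVec]; exact (D i).add_mem (hA i v hv) (hB i v hv)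
      zero_mem' := fun i v _ => by rw [Matrix.zero_mulVec]; exact (D i).zero_mem
      smul_mem' := fun c A hA i v hv => by
        rw [Matrix.smul_mulVec]; exact (D i).smul_mem c (hA i v hv) } with hWdef
  refine H.no_proper hx hy W ?_ ?_ ?_
  · intro g hg A hA i v hv
    obtain ⟨j, hj⟩ := hM g hg i
    rw [← hj] at hv
    obtain ⟨u, hu, rfl⟩ := hv
    have h3 : ((g : Matrix ι ι F) * A * ((g⁻¹ : GL ι F) : Matrix ι ι F)) *ᵥ (Matrix.toLin' (g : Matrix ι ι F) u)
        = Matrix.toLin' (g : Matrix ι ι F) (A *ᵥ u) := by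
      rw [Matrix.toLin'_apply, Matrix.toLin'_apply, Matrix.mulVec_mulVec, Matrix.mulVec_mulVec, mul_assoc,
        gl_inv_mul, mul_one]
    rw [h3, ← hj]
    exact Submodule.mem_map_of_mem (hA j u hu)
  · obtain ⟨A, hA, hc⟩ := h1
    exact ⟨A, hA, hc⟩
  · obtain ⟨i, hi0, hi1⟩ := h2
    obtain ⟨v, hv, hv0⟩ := (Submodule.ne_bot_iff _).1 hi0
    obtain ⟨w, hw⟩ : ∃ w, w ∉ D i := by
      by_contra hcon
      push Not at hcon
      exact hi1 ((Submodule.eq_top_iff').2 hcon)
    have hind : LinearIndependent F ![v, w] := by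
      rw [LinearIndependent.pair_iff]
      intro a b hab
      have hb : b = 0 := by
        by_contra hb
        apply hw
        have : w = (-(b⁻¹ * a)) • v := by
          have h3 : b • w = -(a • v) := eq_neg_of_add_eq_zero_right hab
          calc w = b⁻¹ • (b • w) := by rw [smul_smul, inv_mul_cancel₀ hb, one_smul]
            _ = _ := by rw [h3, smul_neg, smul_smul, neg_smul]
        rw [this]
        exact (D i).smul_mem _ hv
      refine ⟨?_, hb⟩
      rw [hb, zero_smul, add_zero] at hab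
      exact (smul_eq_zero.1 hab).resolve_right hv0
    obtain ⟨A, hA, hAv⟩ := exists_rank_one hind
    refine ⟨A, hA, fun hAW => hw ?_⟩
    rw [← hAv]
    exact hAW i v hv

/-- Class 1. -/
theorem GPos.no_subspace {x y : GL ι F} {h : GL ι K} {l : ι → K} (H : GPos x y h l)
    (D : Submodule F (ι → F)) (h0 : D ≠ ⊥) (h1 : D ≠ ⊤) {M : Subgroup (GL ι F)} (hx : x ∈ M) (hy : y ∈ M)
    (hM : ∀ g ∈ M, ∀ v, v ∈ D ↔ (g : Matrix ι ι F) *ᵥ v ∈ D) : False := by
  obtain ⟨v, hv, hv0⟩ := (Submodule.ne_bot_iff _).1 h0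
  obtain ⟨w, hw⟩ : ∃ w, w ∉ D := by
    by_contra hcon
    push Not at hcon
    exact h1 ((Submodule.eq_top_iff').2 hcon)
  refine H.no_family (fun _ : Unit => D) hx hy ?_ ?_ ⟨(), h0, h1⟩
  · intro g hg i
    refine ⟨(), le_antisymm ?_ ?_⟩
    · rintro _ ⟨u, hu, rfl⟩
      rw [Matrix.toLin'_apply]
      exact (hM g hg u).1 hu
    · intro u hu
      refine ⟨((g⁻¹ : GL ι F) : Matrix ι ι F) *ᵥ u, (hM _ (M.inv_mem hg) u).1 hu, ?_⟩
      rw [Matrix.toLin'_apply, Matrix.mulVec_mulVec, gl_mul_inv, Matrix.one_mulVec]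
  · -- a map with image spanned by `v`
    obtain ⟨i, hi⟩ : ∃ i, v i ≠ 0 := by
      by_contra hcon
      push Not at hcon
      exact hv0 (funext hcon)
    refine ⟨Matrix.vecMulVec v (Pi.single i 1), ?_, ?_⟩
    · intro _ u _
      rw [vmv]
      exact D.smul_mem _ hv
    · intro c hc
      have h3 : (c • (1 : Matrix ι ι F)) *ᵥ w = c • w := by
        rw [Matrix.smul_mulVec, Matrix.one_mulVec]
      have h4 : (Matrix.vecMulVec v (Pi.single i 1)) *ᵥ w ∈ D := by
        rw [vmv]
        exact D.smul_mem _ hv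
      rw [hc, h3] at h4
      have hc0 : c = 0 := by
        by_contra hc0
        exact hw ((D.smul_mem_iff hc0).1 h4)
      rw [hc0, zero_smul] at hc
      have h5 := congrFun (congrFun hc i) i
      rw [Matrix.vecMulVec_apply, Pi.single_eq_same, mul_one, Matrix.zero_apply] at h5
      exact hi h5

/-- Class 2. -/
theorem GPos.no_decomposition {x y : GL ι F} {h : GL ι K} {l : ι → K} (H : GPos x y h l)
    {t m : ℕ} (D : Fin t → Submodule F (ι → F)) (hD : Cfsg.Geo.IsMDecomposition m D)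
    (hx : x ∈ Cfsg.Geo.decompositionStabilizer D) (hy : y ∈ Cfsg.Geo.decompositionStabilizer D) : False := by
  obtain ⟨i0, i1, hi⟩ : ∃ i0 i1 : Fin t, i0 ≠ i1 :=
    ⟨⟨0, by have := hD.two_le; omega⟩, ⟨1, by have := hD.two_le; omega⟩, by simp⟩
  have hne : ∀ i, D i ≠ ⊥ := by
    intro i hi
    have := hD.finrank_eq i
    rw [hi, finrank_bot] at this
    exact hD.pos.ne this
  obtain ⟨v0, hv0, hv0'⟩ := (Submodule.ne_bot_iff _).1 (hne i0)
  obtain ⟨v1, hv1, hv1'⟩ := (Submodule.ne_bot_iff _).1 (hne i1)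
  refine H.no_family D hx hy ?_ ?_ ⟨i0, hne i0, ?_⟩
  · intro g hg i
    obtain ⟨σ, hσ⟩ := hg
    exact ⟨σ.symm i, by rw [hσ, Equiv.apply_symm_apply]⟩
  · -- projection onto D i0
    have hcompl : IsCompl (D i0) (⨆ (j) (_ : j ≠ i0), D j) := by
      refine ⟨hD.indep i0, codisjoint_iff.2 ?_⟩
      rw [← hD.iSup_eq_top]
      refine le_antisymm (sup_le (le_iSup D i0) (iSup₂_le fun j _ => le_iSup D j)) (iSup_le fun j => ?_)
      by_cases hj : j = i0
      · rw [hj]; exact le_sup_left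
      · exact le_trans (le_iSup₂ (f := fun j (_ : j ≠ i0) => D j) j hj) le_sup_right
    set P := (D i0).projection _ hcompl with hP
    refine ⟨LinearMap.toMatrix' P, ?_, ?_⟩
    · intro i v hv
      have h3 : (LinearMap.toMatrix' P) *ᵥ v = P v := by
        rw [← Matrix.toLin'_apply, Matrix.toLin'_toMatrix']
      rw [h3]
      by_cases hii : i = i0
      · subst hii
        rw [hP, Submodule.projection_apply_of_mem_left hcompl hv]
        exact hv
      · have hv' : v ∈ (⨆ (j) (_ : j ≠ i0), D j) := (le_iSup₂ (f := fun j (_ : j ≠ i0) => D j) i hii) hv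
        rw [hP, Submodule.projection_apply_of_mem_right hcompl hv']
        exact (D i).zero_mem
    · intro c hc
      have h3 : ∀ v, P v = c • v := by
        intro v
        have : (LinearMap.toMatrix' P) *ᵥ v = P v := by
          rw [← Matrix.toLin'_apply, Matrix.toLin'_toMatrix']
        rw [← this, hc, Matrix.smul_mulVec, Matrix.one_mulVec]
      have h4 := h3 v0
      have h5 := h3 v1
      rw [hP, Submodule.projection_apply_of_mem_left hcompl hv0] at h4
      have hv1'' : v1 ∈ (⨆ (j) (_ : j ≠ i0), D j) :=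
        (le_iSup₂ (f := fun j (_ : j ≠ i0) => D j) i1 hi.symm) hv1
      rw [hP, Submodule.projection_apply_of_mem_right hcompl hv1''] at h5
      rcases smul_eq_zero.1 h5.symm with h6 | h6
      · rw [h6, zero_smul] at h4
        exact hv0' h4
      · exact hv1' h6
  · intro htop
    have := (hD.indep i0).le_bot ⟨show v1 ∈ D i0 by rw [htop]; trivial,
      (le_iSup₂ (f := fun j (_ : j ≠ i0) => D j) i1 hi.symm) hv1⟩
    exact hv1' ((Submodule.mem_bot F).1 this)

/-- Class 3. -/
theorem GPos.no_field {x y : GL ι F} {h : GL ι K} {l : ι → K} (H : GPos x y h l)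
    {r : ℕ} (hr : r.Prime) (k : Subalgebra F (Matrix ι ι F)) (hk : Cfsg.Geo.IsFieldSubalgebra r k)
    (hx : x ∈ Cfsg.Geo.subalgebraNormalizer k) (hy : y ∈ Cfsg.Geo.subalgebraNormalizer k) : False := by
  have h1 : ∃ A ∈ Subalgebra.toSubmodule k, ∀ c : F, A ≠ c • (1 : Matrix ι ι F) := by
    by_contra hcon
    push Not at hcon
    have hle : k ≤ ⊥ := by
      intro A hA
      obtain ⟨c, hc⟩ := hcon A hA
      rw [hc]
      exact Algebra.mem_bot.2 ⟨c, by rw [Algebra.algebraMap_eq_smul_one]⟩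
    have h3 := hk.finrank_eq
    rw [le_bot_iff.1 hle] at h3
    have h4 : Module.finrank F (⊥ : Subalgebra F (Matrix ι ι F)) ≤ 1 := by
      rcases isEmpty_or_nonempty ι with he | hne
      · have : Subsingleton (Matrix ι ι F) := ⟨fun A B => by ext i; exact (he.false i).elim⟩
        rw [Module.finrank_zero_of_subsingleton]
        exact Nat.zero_le _
      · exact Subalgebra.finrank_bot.le
    have := hr.two_le
    omega
  obtain ⟨A, hA, hAc⟩ := h1
  -- two different indices
  obtain ⟨i, j, hij⟩ : ∃ i j : ι, i ≠ j := by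
    by_contra hcon
    push Not at hcon
    rcases isEmpty_or_nonempty ι with he | ⟨⟨i0⟩⟩
    · exact hAc 0 (by ext i; exact (he.false i).elim)
    · refine hAc (A i0 i0) ?_
      ext a b
      rw [hcon a i0, hcon b i0, Matrix.smul_apply, Matrix.one_apply_eq, smul_eq_mul, mul_one]
  refine H.no_proper hx hy (Subalgebra.toSubmodule k) (fun g hg A hA => (hg A).1 hA) ⟨A, hA, hAc⟩ ?_
  by_contra hcon
  push Not at hcon
  have e1 := hcon (Matrix.single i j 1) (by rw [Matrix.trace_single_eq_of_ne _ _ _ hij])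
  have e2 := hcon (Matrix.single j i 1) (by rw [Matrix.trace_single_eq_of_ne _ _ _ hij.symm])
  have h3 := hk.comm _ e1 _ e2
  rw [Matrix.single_mul_single_same, Matrix.single_mul_single_same] at h3
  have h4 := congrFun (congrFun h3 i) i
  rw [Matrix.single_apply_same, Matrix.single_apply_of_ne _ _ _ _ _ (by tauto)] at h4
  simp at h4

end Cfsg.Agent.H872.GP
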