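import Cfsg.Agent.H872.GP.Geo

/-!
helper872: generic position pairs lie in no member of the geometric classes 4, 7, 8.
-/

set_option autoImplicit false

open Matrix
open scoped Kronecker

namespace Cfsg.Agent.H872.GP

variable {F K : Type*} {ι : Type} [Field F] [Field K] [Algebra F K] [Fintype ι] [DecidableEq ι]

/-- Transport along a change of basis and of index sets. -/
theorem GPos.no_transport {x y : GL ι F} {h : GL ι K} {l : ι → K} (H : GPos x y h l)
    {κ : Type} [Fintype κ] [DecidableEq κ] (e : ι ≃ κ) (P : GL ι F) (N : Subgroup (GL κ F))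
    (W : Submodule F (Matrix κ κ F))
    (hW : ∀ g ∈ N, ∀ A ∈ W, (g : Matrix κ κ F) * A * ((g⁻¹ : GL κ F) : Matrix κ κ F) ∈ W)
    (h1 : ∃ A ∈ W, ∀ c : F, A ≠ c • (1 : Matrix κ κ F))
    (h2 : ∃ A : Matrix κ κ F, A.trace = 0 ∧ A ∉ W)
    (hx : x ∈ (N.map (Cfsg.Geo.glReindex (F := F) e.symm).toMonoidHom).map (MulAut.conj P).toMonoidHom)
    (hy : y ∈ (N.map (Cfsg.Geo.glReindex (F := F) e.symm).toMonoidHom).map (MulAut.conj P).toMonoidHom) :
    False := by
  set Pm : Matrix ι ι F := (P : Matrix ι ι F) with hPm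
  set Pi : Matrix ι ι F := ((P⁻¹ : GL ι F) : Matrix ι ι F) with hPi
  have hmi : Pm * Pi = 1 := gl_mul_inv P
  have him : Pi * Pm = 1 := gl_inv_mul P
  set W' : Submodule F (Matrix ι ι F) :=
    { carrier := {A | (Pi * A * Pm).submatrix e.symm e.symm ∈ W}
      add_mem' := fun {A B} hA hB => by
        have : (Pi * (A + B) * Pm).submatrix e.symm e.symm
            = (Pi * A * Pm).submatrix e.symm e.symm + (Pi * B * Pm).submatrix e.symm e.symm := by
          rw [mul_add, add_mul]; rfl
        rw [Set.mem_ofPred_eq, this]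
        exact W.add_mem hA hB
      zero_mem' := by
        have : (Pi * (0 : Matrix ι ι F) * Pm).submatrix e.symm e.symm = 0 := by
          rw [mul_zero, zero_mul]; rfl
        rw [Set.mem_ofPred_eq, this]
        exact W.zero_mem
      smul_mem' := fun c A hA => by
        have : (Pi * (c • A) * Pm).submatrix e.symm e.symm
            = c • (Pi * A * Pm).submatrix e.symm e.symm := by
          rw [Matrix.mul_smul, Matrix.smul_mul]; rfl
        rw [Set.mem_ofPred_eq, this]
        exact W.smul_mem c hA } with hW'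
  have hmem : ∀ A, A ∈ W' ↔ (Pi * A * Pm).submatrix e.symm e.symm ∈ W := fun A => Iff.rfl
  have hlift : ∀ B : Matrix κ κ F, (Pi * (Pm * B.submatrix e e * Pi) * Pm).submatrix e.symm e.symm = B := by
    intro B
    have : Pi * (Pm * B.submatrix e e * Pi) * Pm = B.submatrix e e := by
      calc Pi * (Pm * B.submatrix e e * Pi) * Pm = (Pi * Pm) * B.submatrix e e * (Pi * Pm) := by noncomm_ring
        _ = B.submatrix e e := by rw [him, one_mul, mul_one]
    rw [this, Matrix.submatrix_submatrix]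
    simp
  refine H.no_proper hx hy W' ?_ ?_ ?_
  · rintro _ ⟨_, ⟨k, hk, rfl⟩, rfl⟩ A hA
    rw [hmem] at hA ⊢
    have h3 := hW k hk _ hA
    convert h3 using 1
    have hg : (((MulAut.conj P).toMonoidHom ((Cfsg.Geo.glReindex (F := F) e.symm).toMonoidHom k) : GL ι F) :
        Matrix ι ι F) = Pm * (k : Matrix κ κ F).submatrix e e * Pi := rfl
    have hg' : ((((MulAut.conj P).toMonoidHom ((Cfsg.Geo.glReindex (F := F) e.symm).toMonoidHom k))⁻¹ : GL ι F) :
        Matrix ι ι F) = Pm * ((k⁻¹ : GL κ F) : Matrix κ κ F).submatrix e e * Pi := by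
      rw [← map_inv, ← map_inv]
      rfl
    have hg2 : Pi * ((((MulAut.conj P).toMonoidHom ((Cfsg.Geo.glReindex (F := F) e.symm).toMonoidHom k) : GL ι F) :
        Matrix ι ι F) * A * ((((MulAut.conj P).toMonoidHom ((Cfsg.Geo.glReindex (F := F) e.symm).toMonoidHom k))⁻¹ :
        GL ι F) : Matrix ι ι F)) * Pm
        = (k : Matrix κ κ F).submatrix e e * (Pi * A * Pm) * ((k⁻¹ : GL κ F) : Matrix κ κ F).submatrix e e := by
      rw [hg, hg']
      calc Pi * (Pm * (k : Matrix κ κ F).submatrix e e * Pi * A * (Pm * ((k⁻¹ : GL κ F) : Matrix κ κ F).submatrix e e * Pi)) * Pm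
          = (Pi * Pm) * (k : Matrix κ κ F).submatrix e e * (Pi * A * Pm) * ((k⁻¹ : GL κ F) : Matrix κ κ F).submatrix e e * (Pi * Pm) := by
            noncomm_ring
        _ = _ := by rw [him, one_mul, mul_one]
    rw [hg2, ← Matrix.submatrix_mul_equiv _ _ e.symm e.symm e.symm, ← Matrix.submatrix_mul_equiv _ _ e.symm e.symm e.symm]
    rw [Matrix.submatrix_submatrix, Matrix.submatrix_submatrix]
    simp
  · obtain ⟨B, hB, hc⟩ := h1
    refine ⟨Pm * B.submatrix e e * Pi, by rw [hmem, hlift]; exact hB, ?_⟩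
    intro c hcc
    apply hc c
    have := hlift B
    rw [hcc] at this
    rw [← this, Matrix.mul_smul, Matrix.smul_mul, mul_one, him]
    ext i j
    simp [Matrix.one_apply]
  · obtain ⟨B, hB, hBW⟩ := h2
    refine ⟨Pm * B.submatrix e e * Pi, ?_, by rw [hmem, hlift]; exact hBW⟩
    rw [Matrix.trace_mul_comm, ← mul_assoc, him, one_mul, ← hB]
    exact Equiv.sum_comp e (fun i => B i i)

/-- Class 4. -/
theorem GPos.no_tensor {x y : GL ι F} {h : GL ι K} {l : ι → K} (H : GPos x y h l)
    {n₁ n₂ : ℕ} (e : ι ≃ Fin n₁ × Fin n₂) (P : GL ι F) (h1 : 2 ≤ n₁) (h2 : n₁ < n₂)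
    (hx : x ∈ Cfsg.Geo.tensorProductSubgroup n₁ n₂ e P) (hy : y ∈ Cfsg.Geo.tensorProductSubgroup n₁ n₂ e P) :
    False := by
  set W : Submodule F (Matrix (Fin n₁ × Fin n₂) (Fin n₁ × Fin n₂) F) :=
    { carrier := {A | ∃ a : Matrix (Fin n₁) (Fin n₁) F, A = a ⊗ₖ (1 : Matrix (Fin n₂) (Fin n₂) F)}
      add_mem' := by
        rintro _ _ ⟨a, rfl⟩ ⟨b, rfl⟩
        exact ⟨a + b, by rw [Matrix.add_kronecker]⟩
      zero_mem' := ⟨0, by rw [Matrix.zero_kronecker]⟩
      smul_mem' := by
        rintro c _ ⟨a, rfl⟩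
        exact ⟨c • a, by rw [Matrix.smul_kronecker]⟩ } with hW
  have i0 : Fin n₁ := ⟨0, by omega⟩
  set a0 : Fin n₁ := ⟨0, by omega⟩
  set a1 : Fin n₁ := ⟨1, by omega⟩
  set b0 : Fin n₂ := ⟨0, by omega⟩
  set b1 : Fin n₂ := ⟨1, by omega⟩
  have ha : a0 ≠ a1 := by simp [a0, a1]
  have hb : b0 ≠ b1 := by simp [b0, b1]
  refine H.no_transport e P (Cfsg.Geo.kroneckerSubgroup n₁ n₂ F) W ?_ ?_ ?_ hx hy
  · rintro g ⟨a, b, hab⟩ _ ⟨c, rfl⟩
    have hinv : ((g⁻¹ : GL (Fin n₁ × Fin n₂) F) : Matrix (Fin n₁ × Fin n₂) (Fin n₁ × Fin n₂) F)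
        = ((a⁻¹ : GL (Fin n₁) F) : Matrix (Fin n₁) (Fin n₁) F) ⊗ₖ ((b⁻¹ : GL (Fin n₂) F) : Matrix (Fin n₂) (Fin n₂) F) := by
      have h3 : (g : Matrix (Fin n₁ × Fin n₂) (Fin n₁ × Fin n₂) F)
          * (((a⁻¹ : GL (Fin n₁) F) : Matrix (Fin n₁) (Fin n₁) F) ⊗ₖ ((b⁻¹ : GL (Fin n₂) F) : Matrix (Fin n₂) (Fin n₂) F)) = 1 := by
        rw [hab, ← Matrix.mul_kronecker_mul, gl_mul_inv, gl_mul_inv, Matrix.one_kronecker_one]
      calc ((g⁻¹ : GL (Fin n₁ × Fin n₂) F) : Matrix (Fin n₁ × Fin n₂) (Fin n₁ × Fin n₂) F)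
          = ((g⁻¹ : GL (Fin n₁ × Fin n₂) F) : Matrix (Fin n₁ × Fin n₂) (Fin n₁ × Fin n₂) F) * 1 := (mul_one _).symm
        _ = _ := by rw [← h3, ← mul_assoc, gl_inv_mul, one_mul]
    rw [hinv, hab]
    refine ⟨(a : Matrix (Fin n₁) (Fin n₁) F) * c * ((a⁻¹ : GL (Fin n₁) F) : Matrix (Fin n₁) (Fin n₁) F), ?_⟩
    rw [← Matrix.mul_kronecker_mul, ← Matrix.mul_kronecker_mul, mul_one, gl_mul_inv]
  · refine ⟨Matrix.single a0 a1 1 ⊗ₖ 1, ⟨_, rfl⟩, ?_⟩
    intro c hc
    have := congrFun (congrFun hc (a0, b0)) (a1, b0)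
    rw [Matrix.kroneckerMap_apply, Matrix.smul_apply,
      Matrix.one_apply_ne (fun h3 : (a0, b0) = (a1, b0) => ha (congrArg Prod.fst h3))] at this
    simp at this
  · refine ⟨(1 : Matrix (Fin n₁) (Fin n₁) F) ⊗ₖ Matrix.single b0 b1 1, ?_, ?_⟩
    · rw [Matrix.trace_kronecker, Matrix.trace_single_eq_of_ne _ _ _ hb, mul_zero]
    · rintro ⟨a, ha'⟩
      have := congrFun (congrFun ha' (a0, b0)) (a0, b1)
      rw [Matrix.kroneckerMap_apply, Matrix.kroneckerMap_apply, Matrix.one_apply_eq, Matrix.one_apply_ne hb] at this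
      simp at this

/-! ### Class 7 -/

section wreath

variable {m t : ℕ}

/-- Pure tensors. -/
def pure (a : Fin t → Matrix (Fin m) (Fin m) F) : Matrix (Fin t → Fin m) (Fin t → Fin m) F :=
  Matrix.of fun x y => ∏ i, a i (x i) (y i)

lemma pure_apply (a : Fin t → Matrix (Fin m) (Fin m) F) (x y : Fin t → Fin m) :
    pure a x y = ∏ i, a i (x i) (y i) := rfl

lemma pure_mul (a b : Fin t → Matrix (Fin m) (Fin m) F) : pure a * pure b = pure (fun i => a i * b i) := by
  ext x y
  rw [Matrix.mul_apply, pure_apply]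
  simp only [Matrix.mul_apply]
  rw [Finset.prod_univ_sum]
  rw [Fintype.piFinset_univ]
  refine Finset.sum_congr rfl fun z _ => ?_
  rw [pure_apply, pure_apply, ← Finset.prod_mul_distrib]

lemma pure_one : pure (1 : Fin t → Matrix (Fin m) (Fin m) F) = 1 := by
  ext x y
  rw [pure_apply, Matrix.one_apply]
  by_cases hxy : x = y
  · rw [if_pos hxy, hxy]
    exact Finset.prod_eq_one fun i _ => by simp
  · rw [if_neg hxy]
    obtain ⟨i, hi⟩ := Function.ne_iff.1 hxy
    exact Finset.prod_eq_zero (Finset.mem_univ i) (by simp [Matrix.one_apply_ne hi])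

/-- Permutations of the factors. -/
def facPerm (F : Type*) [Field F] (m : ℕ) {t : ℕ} (σ : Equiv.Perm (Fin t)) :
    Matrix (Fin t → Fin m) (Fin t → Fin m) F :=
  Matrix.of fun x y => if y = x ∘ σ then 1 else 0

lemma facPerm_mul (σ : Equiv.Perm (Fin t)) (B : Matrix (Fin t → Fin m) (Fin t → Fin m) F)
    (x y : Fin t → Fin m) : (facPerm F m σ * B) x y = B (x ∘ σ) y := by
  rw [Matrix.mul_apply, Finset.sum_eq_single (x ∘ σ)]
  · simp [facPerm]
  · intro b _ hb
    simp [facPerm, hb]
  · intro h; exact absurd (Finset.mem_univ _) h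

lemma mul_facPerm (σ : Equiv.Perm (Fin t)) (B : Matrix (Fin t → Fin m) (Fin t → Fin m) F)
    (x y : Fin t → Fin m) : (B * facPerm F m σ) x y = B x (y ∘ σ.symm) := by
  rw [Matrix.mul_apply, Finset.sum_eq_single (y ∘ σ.symm)]
  · simp [facPerm, Function.comp_assoc]
  · intro b _ hb
    have : ¬ (y = b ∘ σ) := by
      intro h
      apply hb
      rw [h, Function.comp_assoc, Equiv.self_comp_symm, Function.comp_id]
    simp [facPerm, this]
  · intro h; exact absurd (Finset.mem_univ _) h

lemma facPerm_conj (σ : Equiv.Perm (Fin t)) (b : Fin t → Matrix (Fin m) (Fin m) F) :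
    facPerm F m σ * pure b * facPerm F m σ.symm = pure (b ∘ σ.symm) := by
  ext x y
  rw [mul_facPerm, facPerm_mul, pure_apply, pure_apply, ← Equiv.prod_comp σ.symm]
  refine Finset.prod_congr rfl fun i _ => ?_
  simp

lemma facPerm_mul_symm (σ : Equiv.Perm (Fin t)) : facPerm F m σ * facPerm F m σ.symm = 1 := by
  have := facPerm_conj (F := F) (m := m) σ 1
  rw [pure_one, mul_one] at this
  rw [this]
  exact pure_one

/-- The sum of the tensor factors of the endomorphism algebra. -/
def wreathSub (F : Type*) [Field F] (m t : ℕ) : Submodule F (Matrix (Fin t → Fin m) (Fin t → Fin m) F) :=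
  Submodule.span F {A | ∃ (i : Fin t) (a : Matrix (Fin m) (Fin m) F),
    A = pure (Function.update (1 : Fin t → Matrix (Fin m) (Fin m) F) i a)}

lemma wreathSub_stable {g g' : Matrix (Fin t → Fin m) (Fin t → Fin m) F}
    (hg : ∀ (i : Fin t) (a : Matrix (Fin m) (Fin m) F), ∃ (j : Fin t) (b : Matrix (Fin m) (Fin m) F),
      g * pure (Function.update (1 : Fin t → Matrix (Fin m) (Fin m) F) i a) * g'
        = pure (Function.update (1 : Fin t → Matrix (Fin m) (Fin m) F) j b)) :
    ∀ A ∈ wreathSub F m t, g * A * g' ∈ wreathSub F m t := by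
  intro A hA
  induction hA using Submodule.span_induction with
  | mem A hA =>
    obtain ⟨i, a, rfl⟩ := hA
    obtain ⟨j, b, hb⟩ := hg i a
    exact Submodule.subset_span ⟨j, b, hb⟩
  | zero => rw [mul_zero, zero_mul]; exact Submodule.zero_mem _
  | add A B _ _ hA hB => rw [mul_add, add_mul]; exact Submodule.add_mem _ hA hB
  | smul c A _ hA => rw [Matrix.mul_smul, Matrix.smul_mul]; exact Submodule.smul_mem _ _ hA

lemma pure_conj {a a' : Fin t → Matrix (Fin m) (Fin m) F} (h : ∀ i, a i * a' i = 1) (i : Fin t)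
    (b : Matrix (Fin m) (Fin m) F) :
    pure a * pure (Function.update (1 : Fin t → Matrix (Fin m) (Fin m) F) i b) * pure a'
      = pure (Function.update (1 : Fin t → Matrix (Fin m) (Fin m) F) i (a i * b * a' i)) := by
  rw [pure_mul, pure_mul]
  congr 1
  funext j
  by_cases hj : j = i
  · subst hj
    simp
  · simp [Function.update_of_ne hj, h j]

lemma wreath_generators {g : GL (Fin t → Fin m) F}
    (hg : g ∈ {g | Cfsg.Geo.IsPureTensor m t g ∨ Cfsg.Geo.IsFactorPermutation m t g}) :
    (∀ A ∈ wreathSub F m t, (g : Matrix (Fin t → Fin m) (Fin t → Fin m) F) * A *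
      ((g⁻¹ : GL (Fin t → Fin m) F) : Matrix (Fin t → Fin m) (Fin t → Fin m) F) ∈ wreathSub F m t) ∧
    (∀ A ∈ wreathSub F m t, ((g⁻¹ : GL (Fin t → Fin m) F) : Matrix (Fin t → Fin m) (Fin t → Fin m) F) * A *
      (g : Matrix (Fin t → Fin m) (Fin t → Fin m) F) ∈ wreathSub F m t) := by
  have hinv : ∀ B : Matrix (Fin t → Fin m) (Fin t → Fin m) F,
      (g : Matrix (Fin t → Fin m) (Fin t → Fin m) F) * B = 1 →
      ((g⁻¹ : GL (Fin t → Fin m) F) : Matrix (Fin t → Fin m) (Fin t → Fin m) F) = B := by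
    intro B hB
    calc ((g⁻¹ : GL (Fin t → Fin m) F) : Matrix (Fin t → Fin m) (Fin t → Fin m) F)
        = ((g⁻¹ : GL (Fin t → Fin m) F) : Matrix (Fin t → Fin m) (Fin t → Fin m) F) * 1 := (mul_one _).symm
      _ = B := by rw [← hB, ← mul_assoc, gl_inv_mul, one_mul]
  rcases hg with ⟨gs, hgs⟩ | ⟨σ, hσ⟩
  · have hg1 : (g : Matrix (Fin t → Fin m) (Fin t → Fin m) F)
        = pure (fun i => (gs i : Matrix (Fin m) (Fin m) F)) := by
      ext x y
      rw [hgs, pure_apply]
    have hg2 : ((g⁻¹ : GL (Fin t → Fin m) F) : Matrix (Fin t → Fin m) (Fin t → Fin m) F)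
        = pure (fun i => (((gs i)⁻¹ : GL (Fin m) F) : Matrix (Fin m) (Fin m) F)) := by
      apply hinv
      rw [hg1, pure_mul]
      have : (fun i => (gs i : Matrix (Fin m) (Fin m) F) * (((gs i)⁻¹ : GL (Fin m) F) : Matrix (Fin m) (Fin m) F))
          = (1 : Fin t → Matrix (Fin m) (Fin m) F) := by
        funext i
        exact gl_mul_inv (gs i)
      rw [this, pure_one]
    constructor
    · rw [hg1, hg2]
      exact wreathSub_stable fun i a => ⟨i, _, pure_conj (fun i => gl_mul_inv (gs i)) i a⟩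
    · rw [hg1, hg2]
      exact wreathSub_stable fun i a => ⟨i, _, pure_conj (fun i => gl_inv_mul (gs i)) i a⟩
  · have hg1 : (g : Matrix (Fin t → Fin m) (Fin t → Fin m) F) = facPerm F m σ := by
      ext x y
      rw [hσ]
      rfl
    have hg2 : ((g⁻¹ : GL (Fin t → Fin m) F) : Matrix (Fin t → Fin m) (Fin t → Fin m) F)
        = facPerm F m σ.symm := by
      apply hinv
      rw [hg1, facPerm_mul_symm]
    have hupd : ∀ (τ : Equiv.Perm (Fin t)) (i : Fin t) (a : Matrix (Fin m) (Fin m) F),
        (Function.update (1 : Fin t → Matrix (Fin m) (Fin m) F) i a) ∘ τ.symm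
          = Function.update (1 : Fin t → Matrix (Fin m) (Fin m) F) (τ i) a := by
      intro τ i a
      funext j
      by_cases hj : j = τ i
      · subst hj
        simp
      · have hj' : τ.symm j ≠ i := fun h => hj (by rw [← h, Equiv.apply_symm_apply])
        simp [Function.update_of_ne hj, Function.update_of_ne hj']
    constructor
    · refine wreathSub_stable fun i a => ⟨σ i, a, ?_⟩
      rw [hg1, hg2, facPerm_conj, hupd]
    · refine wreathSub_stable fun i a => ⟨σ.symm i, a, ?_⟩
      rw [hg1, hg2]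
      have := facPerm_conj (F := F) (m := m) σ.symm (Function.update (1 : Fin t → Matrix (Fin m) (Fin m) F) i a)
      rw [Equiv.symm_symm] at this
      rw [this, ← hupd σ.symm]
      rfl

/-- Class 7. -/
theorem GPos.no_wreath {x y : GL ι F} {h : GL ι K} {l : ι → K} (H : GPos x y h l)
    (e : ι ≃ (Fin t → Fin m)) (P : GL ι F) (hm : 2 ≤ m) (ht : 2 ≤ t)
    (hx : x ∈ Cfsg.Geo.tensorWreathSubgroup m t e P) (hy : y ∈ Cfsg.Geo.tensorWreathSubgroup m t e P) :
    False := by
  set c0 : Fin m := ⟨0, by omega⟩ with hc0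
  set c1 : Fin m := ⟨1, by omega⟩ with hc1
  set t0 : Fin t := ⟨0, by omega⟩ with ht0
  set t1 : Fin t := ⟨1, by omega⟩ with ht1
  have hc : c0 ≠ c1 := by simp [hc0, hc1]
  have htt : t0 ≠ t1 := by simp [ht0, ht1]
  refine H.no_transport e P (Cfsg.Geo.tensorWreathStandard m t F) (wreathSub F m t) ?_ ?_ ?_ hx hy
  · intro g hg
    have : (∀ A ∈ wreathSub F m t, (g : Matrix (Fin t → Fin m) (Fin t → Fin m) F) * A *
      ((g⁻¹ : GL (Fin t → Fin m) F) : Matrix (Fin t → Fin m) (Fin t → Fin m) F) ∈ wreathSub F m t) ∧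
      (∀ A ∈ wreathSub F m t, ((g⁻¹ : GL (Fin t → Fin m) F) : Matrix (Fin t → Fin m) (Fin t → Fin m) F) * A *
      (g : Matrix (Fin t → Fin m) (Fin t → Fin m) F) ∈ wreathSub F m t) := by
      refine Subgroup.closure_induction (p := fun (g : GL (Fin t → Fin m) F) _ =>
        (∀ A ∈ wreathSub F m t, (g : Matrix (Fin t → Fin m) (Fin t → Fin m) F) * A *
        ((g⁻¹ : GL (Fin t → Fin m) F) : Matrix (Fin t → Fin m) (Fin t → Fin m) F) ∈ wreathSub F m t) ∧
        (∀ A ∈ wreathSub F m t, ((g⁻¹ : GL (Fin t → Fin m) F) : Matrix (Fin t → Fin m) (Fin t → Fin m) F) * A *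
        (g : Matrix (Fin t → Fin m) (Fin t → Fin m) F) ∈ wreathSub F m t)) ?_ ?_ ?_ ?_ hg
      · intro g hg
        exact wreath_generators hg
      · constructor
        · intro A hA
          simpa using hA
        · intro A hA
          simpa using hA
      · intro a b _ _ ha hb
        constructor
        · intro A hA
          have := ha.1 _ (hb.1 A hA)
          rw [_root_.mul_inv_rev, Units.val_mul, Units.val_mul]
          convert this using 1
          noncomm_ring
        · intro A hA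
          have := hb.2 _ (ha.2 A hA)
          rw [_root_.mul_inv_rev, Units.val_mul, Units.val_mul]
          convert this using 1
          noncomm_ring
      · intro a _ ha
        rw [inv_inv]
        exact ⟨ha.2, ha.1⟩
    exact this.1
  · refine ⟨pure (Function.update (1 : Fin t → Matrix (Fin m) (Fin m) F) t0 (Matrix.single c0 c1 1)),
      Submodule.subset_span ⟨_, _, rfl⟩, ?_⟩
    intro c hcc
    set u : Fin t → Fin m := fun _ => c0 with hu
    set v : Fin t → Fin m := Function.update (fun _ => c0) t0 c1 with hv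
    have huv : u ≠ v := by
      intro h3
      have := congrFun h3 t0
      rw [hu, hv, Function.update_self] at this
      exact hc this
    have h3 := congrFun (congrFun hcc u) v
    rw [Matrix.smul_apply, Matrix.one_apply_ne huv, smul_zero, pure_apply] at h3
    have h4 : ∀ i ∈ (Finset.univ : Finset (Fin t)), (Function.update (1 : Fin t → Matrix (Fin m) (Fin m) F) t0
        (Matrix.single c0 c1 1)) i (u i) (v i) = 1 := by
      intro i _
      by_cases hi : i = t0
      · subst hi
        rw [Function.update_self, hu, hv, Function.update_self, Matrix.single_apply_same]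
      · rw [Function.update_of_ne hi, hv, Function.update_of_ne hi, Pi.one_apply, Matrix.one_apply_eq]
    rw [Finset.prod_eq_one h4] at h3
    exact one_ne_zero h3
  · set u : Fin t → Fin m := fun _ => c0 with hu
    set v : Fin t → Fin m := fun _ => c1 with hv
    have huv : u ≠ v := fun h3 => hc (congrFun h3 t0)
    refine ⟨Matrix.single u v 1, Matrix.trace_single_eq_of_ne _ _ _ huv, ?_⟩
    intro hmem
    have hz : ∀ A ∈ wreathSub F m t, A u v = 0 := by
      intro A hA
      induction hA using Submodule.span_induction with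
      | mem A hA =>
        obtain ⟨i, a, rfl⟩ := hA
        obtain ⟨j, hj⟩ : ∃ j : Fin t, j ≠ i := by
          by_cases hi : t0 = i
          · exact ⟨t1, by rw [← hi]; exact htt.symm⟩
          · exact ⟨t0, hi⟩
        rw [pure_apply]
        refine Finset.prod_eq_zero (Finset.mem_univ j) ?_
        rw [Function.update_of_ne hj, Pi.one_apply, Matrix.one_apply_ne hc]
      | zero => rfl
      | add A B _ _ hA hB => rw [Matrix.add_apply, hA, hB, add_zero]
      | smul c A _ hA => rw [Matrix.smul_apply, hA, smul_zero]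
    have := hz _ hmem
    rw [Matrix.single_apply_same] at this
    exact one_ne_zero this

end wreath

/-! ### Class 8 -/

/-- The Lie algebra of a bilinear form. -/
def lieForm (f : (ι → F) → (ι → F) → F) (hf : Cfsg.Geo.IsBilinearForm f) : Submodule F (Matrix ι ι F) where
  carrier := {A | ∀ u v, f (A *ᵥ u) v + f u (A *ᵥ v) = 0}
  add_mem' := by
    intro A B hA hB u v
    rw [Matrix.add_mulVec, Matrix.add_mulVec, hf.add_left, hf.add_right]
    have h1 := hA u v
    have h2 := hB u v
    linear_combination h1 + h2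
  zero_mem' := by
    intro u v
    have h1 := hf.smul_left 0 u v
    have h2 := hf.smul_right 0 u v
    rw [zero_smul, zero_mul] at h1 h2
    rw [Matrix.zero_mulVec, Matrix.zero_mulVec, h1, h2, add_zero]
  smul_mem' := by
    intro c A hA u v
    rw [Matrix.smul_mulVec, Matrix.smul_mulVec, hf.smul_left, hf.smul_right, ← mul_add, hA u v, mul_zero]

/-- A nondegenerate bilinear form is not annihilated by all matrices of trace zero (dimension at
least three). -/
lemma lieForm_proper {f : (ι → F) → (ι → F) → F} (hf : Cfsg.Geo.IsBilinearForm f)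
    (hnd : Cfsg.Geo.IsNondegenerateForm f) (h3 : 3 ≤ Fintype.card ι) :
    ∃ A : Matrix ι ι F, A.trace = 0 ∧ A ∉ lieForm f hf := by
  by_contra hcon
  push Not at hcon
  have hzl : ∀ v, f 0 v = 0 := by
    intro v
    have h1 := hf.smul_left 0 0 v
    rwa [zero_smul, zero_mul] at h1
  have hb : ∀ k i : ι, f (Pi.single k 1) (Pi.single i 1) = 0 := by
    intro k i
    obtain ⟨j, hjk, hji⟩ : ∃ j : ι, j ≠ k ∧ j ≠ i := by
      by_contra hc
      push Not at hc
      have : (Finset.univ : Finset ι) ⊆ {k, i} := by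
        intro j _
        rw [Finset.mem_insert, Finset.mem_singleton]
        by_cases hj : j = k
        · exact Or.inl hj
        · exact Or.inr (hc j hj)
      have h4 := Finset.card_le_card this
      rw [Finset.card_univ] at h4
      have h5 := Finset.card_le_two (a := k) (b := i)
      omega
    have h4 := hcon (Matrix.single i j 1) (Matrix.trace_single_eq_of_ne _ _ _ hji.symm) (Pi.single k 1) (Pi.single j 1)
    have e1 : Matrix.single i j (1 : F) *ᵥ (Pi.single k 1) = 0 := by
      ext a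
      rw [Matrix.mulVec_single_one, Matrix.col_apply, Pi.zero_apply]
      exact Matrix.single_apply_of_ne _ _ _ _ _ (fun h => hjk h.2)
    have e2 : Matrix.single i j (1 : F) *ᵥ (Pi.single j 1) = Pi.single i 1 := by
      ext a
      rw [Matrix.mulVec_single_one, Matrix.col_apply]
      by_cases ha : i = a
      · subst ha; rw [Matrix.single_apply_same, Pi.single_eq_same]
      · rw [Matrix.single_apply_of_ne _ _ _ _ _ (fun h => ha h.1), Pi.single_eq_of_ne (Ne.symm ha)]
    rw [e1, e2, hzl, zero_add] at h4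
    exact h4
  -- extend to all vectors
  have hadd : ∀ (s : Finset ι) (g : ι → ι → F) (v : ι → F), f (∑ i ∈ s, g i) v = ∑ i ∈ s, f (g i) v := by
    classical
    intro s g v
    induction s using Finset.induction_on with
    | empty => simp [hzl]
    | insert a s ha ih => rw [Finset.sum_insert ha, Finset.sum_insert ha, hf.add_left, ih]
  have hzr : ∀ v, f v 0 = 0 := by
    intro v
    have h1 := hf.smul_right 0 v 0
    rwa [zero_smul, zero_mul] at h1
  have hadd' : ∀ (s : Finset ι) (g : ι → ι → F) (v : ι → F), f v (∑ i ∈ s, g i) = ∑ i ∈ s, f v (g i) := by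
    classical
    intro s g v
    induction s using Finset.induction_on with
    | empty => simp [hzr]
    | insert a s ha ih => rw [Finset.sum_insert ha, Finset.sum_insert ha, hf.add_right, ih]
  have hall : ∀ u v, f u v = 0 := by
    intro u v
    have hu : u = ∑ i, u i • (Pi.single i (1 : F) : ι → F) := by
      ext a
      rw [Finset.sum_apply, Finset.sum_eq_single a]
      · simp
      · intro b _ hb
        simp [Pi.single_eq_of_ne hb.symm]
      · intro h; exact absurd (Finset.mem_univ _) h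
    have hv : v = ∑ i, v i • (Pi.single i (1 : F) : ι → F) := by
      ext a
      rw [Finset.sum_apply, Finset.sum_eq_single a]
      · simp
      · intro b _ hb
        simp [Pi.single_eq_of_ne hb.symm]
      · intro h; exact absurd (Finset.mem_univ _) h
    rw [hu, hadd]
    refine Finset.sum_eq_zero fun i _ => ?_
    rw [hf.smul_left, hv, hadd']
    rw [Finset.sum_eq_zero, mul_zero]
    intro j _
    rw [hf.smul_right, hb, mul_zero]
  obtain ⟨i⟩ : Nonempty ι := Fintype.card_pos_iff.1 (by omega)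
  have hne : (Pi.single i (1 : F) : ι → F) ≠ 0 := by
    intro h
    have := congrFun h i
    rw [Pi.single_eq_same, Pi.zero_apply] at this
    exact one_ne_zero this
  obtain ⟨⟨z, hz⟩, _⟩ := hnd _ hne
  exact hz (hall _ _)

lemma lieForm_stable {f : (ι → F) → (ι → F) → F} (hf : Cfsg.Geo.IsBilinearForm f) {g : GL ι F} {c : F}
    (hg : ∀ u v, f ((g : Matrix ι ι F) *ᵥ u) ((g : Matrix ι ι F) *ᵥ v) = c * f u v) :
    ∀ A ∈ lieForm f hf, (g : Matrix ι ι F) * A * ((g⁻¹ : GL ι F) : Matrix ι ι F) ∈ lieForm f hf := by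
  intro A hA u v
  set u' := ((g⁻¹ : GL ι F) : Matrix ι ι F) *ᵥ u with hu'
  set v' := ((g⁻¹ : GL ι F) : Matrix ι ι F) *ᵥ v with hv'
  have hu : u = (g : Matrix ι ι F) *ᵥ u' := by
    rw [hu', Matrix.mulVec_mulVec, gl_mul_inv, Matrix.one_mulVec]
  have hv : v = (g : Matrix ι ι F) *ᵥ v' := by
    rw [hv', Matrix.mulVec_mulVec, gl_mul_inv, Matrix.one_mulVec]
  have e : ∀ w : ι → F, ((g : Matrix ι ι F) * A * ((g⁻¹ : GL ι F) : Matrix ι ι F)) *ᵥ ((g : Matrix ι ι F) *ᵥ w)
      = (g : Matrix ι ι F) *ᵥ (A *ᵥ w) := by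
    intro w
    rw [Matrix.mulVec_mulVec, mul_assoc, gl_inv_mul, mul_one, ← Matrix.mulVec_mulVec]
  rw [hu, hv, e, e, hg, hg, ← mul_add, hA u' v', mul_zero]

/-- Class 8, symplectic. -/
theorem GPos.no_symplectic {x y : GL ι F} {h : GL ι K} {l : ι → K} (H : GPos x y h l)
    (h3 : 3 ≤ Fintype.card ι) (f : (ι → F) → (ι → F) → F) (hf : Cfsg.Geo.IsSymplecticForm f)
    (hx : x ∈ Cfsg.Geo.similarityGroup f) (hy : y ∈ Cfsg.Geo.similarityGroup f) : False := by
  refine H.no_proper hx hy (lieForm f hf.bilinear) ?_ ?_ (lieForm_proper hf.bilinear hf.nondegenerate h3)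
  · rintro g ⟨c, hc⟩
    exact lieForm_stable hf.bilinear hc
  · obtain ⟨i⟩ : Nonempty ι := Fintype.card_pos_iff.1 (by omega)
    set w : ι → F := Pi.single i 1 with hw
    have hw0 : w ≠ 0 := by
      intro h
      have := congrFun h i
      rw [hw, Pi.single_eq_same, Pi.zero_apply] at this
      exact one_ne_zero this
    -- the transvection u ↦ f(u, w) w
    set T : (ι → F) →ₗ[F] (ι → F) :=
      { toFun := fun u => f u w • w
        map_add' := fun u v => by rw [hf.bilinear.add_left, add_smul]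
        map_smul' := fun c u => by rw [hf.bilinear.smul_left, RingHom.id_apply, smul_smul] } with hT
    have hTa : ∀ u, (LinearMap.toMatrix' T) *ᵥ u = f u w • w := by
      intro u
      rw [← Matrix.toLin'_apply, Matrix.toLin'_toMatrix']
      rfl
    refine ⟨LinearMap.toMatrix' T, ?_, ?_⟩
    · intro u v
      rw [hTa, hTa, hf.bilinear.smul_left, hf.bilinear.smul_right, hf.skew w v]
      ring
    · intro c hc
      obtain ⟨⟨z, hz⟩, _⟩ := hf.nondegenerate w hw0
      have h5 : ∀ u, f u w • w = c • u := by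
        intro u
        rw [← hTa, hc, Matrix.smul_mulVec, Matrix.one_mulVec]
      have h6 := h5 w
      rw [hf.alternating, zero_smul] at h6
      have hc0 : c = 0 := (smul_eq_zero.1 h6.symm).resolve_right hw0
      have h7 := h5 z
      rw [hc0, zero_smul] at h7
      rcases smul_eq_zero.1 h7 with h8 | h8
      · exact hz h8
      · exact hw0 h8

/-- Class 8, orthogonal. -/
theorem GPos.no_orthogonal {x y : GL ι F} {h : GL ι K} {l : ι → K} (H : GPos x y h l)
    (h3 : 3 ≤ Fintype.card ι) (Q : (ι → F) → F) (hQ : Cfsg.Geo.IsNondegenerateQuadraticForm Q)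
    (hx : x ∈ Cfsg.Geo.quadSimilarityGroup Q) (hy : y ∈ Cfsg.Geo.quadSimilarityGroup Q) : False := by
  obtain ⟨f, hfdef⟩ : ∃ f : (ι → F) → (ι → F) → F, f = QuadraticMap.polar Q := ⟨_, rfl⟩
  have hf : Cfsg.Geo.IsBilinearForm f := by rw [hfdef]; exact hQ.polar_bilinear
  have hnd : Cfsg.Geo.IsNondegenerateForm f := by rw [hfdef]; exact hQ.nondegenerate
  have hsymm : ∀ u v, f u v = f v u := by
    intro u v
    rw [hfdef, QuadraticMap.polar_comm]
  refine H.no_proper hx hy (lieForm f hf) ?_ ?_ (lieForm_proper hf hnd h3)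
  · rintro g ⟨c, hc⟩
    refine lieForm_stable (c := (c : F)) hf ?_
    intro u v
    rw [hfdef, QuadraticMap.polar, QuadraticMap.polar, ← Matrix.mulVec_add, hc, hc, hc]
    ring
  · -- u ↦ f(u, w) w' - f(u, w') w
    obtain ⟨i, j, hij⟩ : ∃ i j : ι, i ≠ j := by
      have : 1 < Fintype.card ι := by omega
      exact Fintype.exists_pair_of_one_lt_card this |>.imp fun _ h => h
    set w : ι → F := Pi.single i 1 with hw
    set w' : ι → F := Pi.single j 1 with hw'
    have hw0 : w ≠ 0 := by
      intro h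
      have := congrFun h i
      rw [hw, Pi.single_eq_same, Pi.zero_apply] at this
      exact one_ne_zero this
    set T : (ι → F) →ₗ[F] (ι → F) :=
      { toFun := fun u => f u w • w' - f u w' • w
        map_add' := fun u v => by rw [hf.add_left, hf.add_left, add_smul, add_smul]; abel
        map_smul' := fun c u => by
          rw [hf.smul_left, hf.smul_left, RingHom.id_apply, smul_sub, smul_smul, smul_smul] } with hT
    have hTa : ∀ u, (LinearMap.toMatrix' T) *ᵥ u = f u w • w' - f u w' • w := by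
      intro u
      rw [← Matrix.toLin'_apply, Matrix.toLin'_toMatrix']
      rfl
    have hsub : ∀ a b v, f (a - b) v = f a v - f b v := by
      intro a b v
      have h1 := hf.add_left (a - b) b v
      rw [sub_add_cancel] at h1
      rw [h1]; ring
    have hsub' : ∀ v a b, f v (a - b) = f v a - f v b := by
      intro v a b
      have h1 := hf.add_right v (a - b) b
      rw [sub_add_cancel] at h1
      rw [h1]; ring
    refine ⟨LinearMap.toMatrix' T, ?_, ?_⟩
    · intro u v
      rw [hTa, hTa, hsub, hsub', hf.smul_left, hf.smul_left, hf.smul_right, hf.smul_right, hsymm w' v, hsymm w v]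
      ring
    · intro c hc
      have h5 : ∀ u, f u w • w' - f u w' • w = c • u := by
        intro u
        rw [← hTa, hc, Matrix.smul_mulVec, Matrix.one_mulVec]
      -- a third coordinate
      obtain ⟨k, hki, hkj⟩ : ∃ k : ι, k ≠ i ∧ k ≠ j := by
        by_contra hcc
        push Not at hcc
        have : (Finset.univ : Finset ι) ⊆ {i, j} := by
          intro k _
          rw [Finset.mem_insert, Finset.mem_singleton]
          by_cases hk : k = i
          · exact Or.inl hk
          · exact Or.inr (hcc k hk)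
        have h4 := Finset.card_le_card this
        rw [Finset.card_univ] at h4
        have h6 := Finset.card_le_two (a := i) (b := j)
        omega
      have hc0 : c = 0 := by
        have := congrFun (h5 (Pi.single k 1)) k
        simpa [hw, hw', Pi.single_eq_of_ne hki, Pi.single_eq_of_ne hkj] using this.symm
      obtain ⟨⟨z, hz⟩, _⟩ := hnd w hw0
      have h7 := congrFun (h5 z) j
      rw [hc0, zero_smul] at h7
      have : f z w = 0 := by
        simpa [hw, hw', Pi.single_eq_of_ne hij.symm] using h7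
      exact hz this

/-- A pair in generic position lies in no member of the geometric classes except possibly in a
subfield group, in the normaliser of a group of symplectic type or in the similarity group of a
unitary form. -/
theorem GPos.linear {n : ℕ} (hn : 3 ≤ n) {x y : GL (Fin n) F} {h : GL (Fin n) K} {l : Fin n → K}
    (H : GPos x y h l) [Fintype F] {M : Subgroup (GL (Fin n) F)} (hM : Cfsg.Geo.InLinearClass n F M)
    (hx : x ∈ M) (hy : y ∈ M) :
    (∃ (F₀ : Subfield F) (r : ℕ) (P : GL (Fin n) F), r.Prime ∧ Fintype.card F = Nat.card F₀ ^ r ∧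
      M = Cfsg.Geo.subfieldSubgroup F₀ P) ∨
    (∃ (r : ℕ) (R : Subgroup (GL (Fin n) F)), Cfsg.Geo.IsLinearSymplecticTypeData r R ∧
      M = Cfsg.Geo.subgroupNormalizer R) ∨
    (∃ (σ : F ≃+* F) (f : (Fin n → F) → (Fin n → F) → F), Cfsg.Geo.IsUnitaryForm σ f ∧
      M = Cfsg.Geo.similarityGroup f) := by
  have h3 : 3 ≤ Fintype.card (Fin n) := by rw [Fintype.card_fin]; exact hn
  have hstab : ∀ (W : Submodule F (Fin n → F)), ∀ g ∈ Cfsg.Geo.subspaceStabilizer W, ∀ v,
      v ∈ W ↔ (g : Matrix (Fin n) (Fin n) F) *ᵥ v ∈ W := fun W g hg v => hg v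
  rcases hM with ⟨W, h0, h1, rfl⟩ | ⟨W, U, h0, h1, _, rfl⟩ | ⟨W, U, h0, hWU, hWU', _, rfl⟩ | ⟨t, m, D, hD, rfl⟩ |
    ⟨r, k, hr, hk, rfl⟩ | ⟨n₁, n₂, e, P, h1, h2, rfl⟩ | ⟨F₀, r, P, hr, hF, rfl⟩ | ⟨r, R, hR, rfl⟩ |
    ⟨m, t, e, P, hm, ht, rfl⟩ | ⟨f, hf, _, _, rfl⟩ | ⟨σ, f, hf, _, rfl⟩ | ⟨Q, hQ, _, _, rfl⟩
  · exact (H.no_subspace W h0 h1 hx hy (hstab W)).elim
  · exact (H.no_subspace W h0 (fun h => not_top_lt (h ▸ h1)) hx hy
      (fun g hg => hstab W g hg.1)).elim
  · refine (H.no_subspace W h0 ?_ hx hy (fun g hg => hstab W g hg.1)).elim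
    intro hW
    rw [hW, top_inf_eq] at hWU
    rw [hW, hWU] at *
    simp_all
  · exact (H.no_decomposition D hD hx hy).elim
  · exact (H.no_field hr k hk hx hy).elim
  · exact (H.no_tensor e P h1 h2 hx hy).elim
  · exact Or.inl ⟨F₀, r, P, hr, hF, rfl⟩
  · exact Or.inr (Or.inl ⟨r, R, hR, rfl⟩)
  · exact (H.no_wreath e P (by omega) ht hx hy).elim
  · exact (H.no_symplectic h3 f hf hx hy).elim
  · exact Or.inr (Or.inr ⟨σ, f, hf, rfl⟩)
  · exact (H.no_orthogonal h3 Q hQ hx hy).elim

end Cfsg.Agent.H872.GP
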