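import Cfsg.Agent.H872.GP.Ad

/-!
helper872: Schwartz-Zippel for random conjugates: almost all conjugates of a nonscalar element are
in generic position with respect to a given basis.
-/

set_option autoImplicit false

open Matrix

namespace Cfsg.Agent.H872.GP

/-- Schwartz-Zippel for the points over a finite subfield. -/
lemma sz {F K σ : Type*} [Field F] [Fintype F] [Field K] [Algebra F K] [Fintype σ]
    {P : MvPolynomial σ K} (hP : P ≠ 0) {D : ℕ} (hD : P.totalDegree ≤ D) :
    Nat.card {v : σ → F // MvPolynomial.eval (fun s => algebraMap F K (v s)) P = 0} * Fintype.card F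
      ≤ D * Fintype.card F ^ Fintype.card σ := by
  classical
  set e := Fintype.equivFin σ with he
  set P' := MvPolynomial.rename e P with hP'
  have hP'0 : P' ≠ 0 := by
    rw [hP']
    intro h
    exact hP ((MvPolynomial.rename_injective e e.injective) (by rw [h, map_zero]))
  set S : Finset K := Finset.univ.map ⟨algebraMap F K, (algebraMap F K).injective⟩ with hS
  have hScard : S.card = Fintype.card F := by rw [hS, Finset.card_map, Finset.card_univ]
  have key := MvPolynomial.schwartz_zippel_totalDegree hP'0 S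
  have hq : 0 < Fintype.card F := Fintype.card_pos
  set T := (Fintype.piFinset fun _ => S).filter
    fun f : Fin (Fintype.card σ) → K => MvPolynomial.eval f P' = 0 with hT
  have hle : Nat.card {v : σ → F // MvPolynomial.eval (fun s => algebraMap F K (v s)) P = 0} ≤ T.card := by
    rw [Nat.card_eq_fintype_card, Fintype.card_subtype]
    refine Finset.card_le_card_of_injOn (fun v => fun i => algebraMap F K (v (e.symm i))) ?_ ?_
    · intro v hv
      have hv' : MvPolynomial.eval (fun s => algebraMap F K (v s)) P = 0 := by simpa using hv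
      rw [hT, Finset.mem_coe, Finset.mem_filter, Fintype.mem_piFinset]
      refine ⟨fun i => ?_, ?_⟩
      · rw [hS, Finset.mem_map]
        exact ⟨v (e.symm i), Finset.mem_univ _, rfl⟩
      · rw [hP', MvPolynomial.eval_rename]
        convert hv' using 3
        funext s
        simp
    · intro v _ w _ hvw
      funext s
      have := congrFun hvw (e s)
      simpa using (algebraMap F K).injective (by simpa using this)
  rw [hScard] at key
  have hdeg : P'.totalDegree ≤ D := (MvPolynomial.totalDegree_rename_le e P).trans hD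
  have hqn : (0 : ℚ≥0) < (Fintype.card F : ℚ≥0) ^ Fintype.card σ := by positivity
  have hqq : (0 : ℚ≥0) < (Fintype.card F : ℚ≥0) := by positivity
  rw [div_le_div_iff₀ hqn hqq] at key
  have key' : T.card * Fintype.card F ≤ P'.totalDegree * Fintype.card F ^ Fintype.card σ := by
    exact_mod_cast key
  exact (Nat.mul_le_mul_right _ hle).trans (key'.trans (Nat.mul_le_mul_right _ hdeg))

section basis

variable {K ι : Type*} [Field K] [Fintype ι] [DecidableEq ι]

omit [Fintype ι] in
lemma exists_perm_pair {a b c d : ι} (hab : a ≠ b) (hcd : c ≠ d) : ∃ σ : Equiv.Perm ι, σ a = c ∧ σ b = d := by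
  refine ⟨(Equiv.swap a c).trans (Equiv.swap (Equiv.swap a c b) d), ?_, ?_⟩
  · rw [Equiv.trans_apply, Equiv.swap_apply_left]
    refine Equiv.swap_apply_of_ne_of_ne ?_ hcd
    intro h
    have := congrArg (Equiv.swap a c) h
    rw [Equiv.swap_apply_right, Equiv.swap_apply_self] at this
    exact hab this
  · rw [Equiv.trans_apply, Equiv.swap_apply_left]

/-- A pair of independent vectors is the pair of columns `i`, `k` of an invertible matrix. -/
lemma exists_basis_pair {u w : ι → K} (h : LinearIndependent K ![u, w]) {i k : ι} (hik : i ≠ k) :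
    ∃ m : GL ι K, (m : Matrix ι ι K) *ᵥ Pi.single i 1 = u ∧ (m : Matrix ι ι K) *ᵥ Pi.single k 1 = w := by
  classical
  have hs := h.linearIndepOn_id
  have hsub := hs.subset_extend (Set.subset_univ (Set.range ![u, w]))
  set b := Module.Basis.extend hs with hb
  have hfin : Fintype (hs.extend (Set.subset_univ (Set.range ![u, w]))) :=
    Module.Basis.fintypeIndexOfRankLtAleph0 b (Module.rank_lt_aleph0 K _)
  have hcard : Fintype.card (hs.extend (Set.subset_univ (Set.range ![u, w]))) = Fintype.card ι := by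
    rw [← Module.finrank_eq_card_basis b, Module.finrank_fintype_fun_eq_card]
  set e0 := Fintype.equivOfCardEq hcard with he0
  obtain ⟨a0, ha0⟩ : ∃ a0 : hs.extend (Set.subset_univ (Set.range ![u, w])), (a0 : ι → K) = u :=
    ⟨⟨u, hsub ⟨0, rfl⟩⟩, rfl⟩
  obtain ⟨a1, ha1⟩ : ∃ a1 : hs.extend (Set.subset_univ (Set.range ![u, w])), (a1 : ι → K) = w :=
    ⟨⟨w, hsub ⟨1, rfl⟩⟩, rfl⟩
  have huw : u ≠ w := by
    intro huw
    have := h.injective.ne (show (0 : Fin 2) ≠ 1 by decide)
    simp [huw] at this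
  have ha01 : a0 ≠ a1 := by
    intro h01
    exact huw (ha0.symm.trans ((congrArg Subtype.val h01).trans ha1))
  obtain ⟨σ, hσ0, hσ1⟩ := exists_perm_pair (a := e0 a0) (b := e0 a1) (c := i) (d := k)
    (fun h => ha01 (e0.injective h)) hik
  set b' := b.reindex (e0.trans σ) with hb'
  have h0 : b' i = u := by
    have h3 : (e0.trans σ).symm i = a0 := by rw [Equiv.symm_apply_eq, Equiv.trans_apply, hσ0]
    rw [hb', Module.Basis.reindex_apply, h3, hb, Module.Basis.extend_apply_self, ha0]
  have h1 : b' k = w := by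
    have h3 : (e0.trans σ).symm k = a1 := by rw [Equiv.symm_apply_eq, Equiv.trans_apply, hσ1]
    rw [hb', Module.Basis.reindex_apply, h3, hb, Module.Basis.extend_apply_self, ha1]
  set E : (ι → K) ≃ₗ[K] (ι → K) := (Pi.basisFun K ι).equiv b' (Equiv.refl ι) with hE
  have hEi : ∀ j, E (Pi.single j 1) = b' j := by
    intro j
    have := (Pi.basisFun K ι).equiv_apply j b' (Equiv.refl ι)
    rwa [Pi.basisFun_apply] at this
  have hmul : LinearMap.toMatrix' E.toLinearMap * LinearMap.toMatrix' E.symm.toLinearMap = 1 := by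
    rw [← LinearMap.toMatrix'_comp]
    simp
  have hmul' : LinearMap.toMatrix' E.symm.toLinearMap * LinearMap.toMatrix' E.toLinearMap = 1 := by
    rw [← LinearMap.toMatrix'_comp]
    simp
  refine ⟨⟨LinearMap.toMatrix' E.toLinearMap, LinearMap.toMatrix' E.symm.toLinearMap, hmul, hmul'⟩, ?_, ?_⟩
  · change LinearMap.toMatrix' E.toLinearMap *ᵥ Pi.single i 1 = u
    rw [LinearMap.toMatrix'_mulVec]
    exact (hEi i).trans h0
  · change LinearMap.toMatrix' E.toLinearMap *ᵥ Pi.single k 1 = w
    rw [LinearMap.toMatrix'_mulVec]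
    exact (hEi k).trans h1

/-- A nonscalar matrix moves some vector out of its line. -/
lemma exists_noneigen {x : Matrix ι ι K} (hx : ∀ c : K, x ≠ c • (1 : Matrix ι ι K)) :
    ∃ u : ι → K, LinearIndependent K ![u, x *ᵥ u] := by
  classical
  by_contra hcon
  push Not at hcon
  have hev : ∀ u : ι → K, u ≠ 0 → ∃ c : K, x *ᵥ u = c • u := by
    intro u hu
    have := hcon u
    rw [LinearIndependent.pair_iff' hu] at this
    push Not at this
    obtain ⟨a, ha⟩ := this
    exact ⟨a, ha.symm⟩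
  rcases isEmpty_or_nonempty ι with he | ⟨⟨i0⟩⟩
  · exact hx 0 (by ext i; exact (he.false i).elim)
  have hs0 : ∀ i : ι, (Pi.single i (1 : K) : ι → K) ≠ 0 := by
    intro i h
    have := congrFun h i
    rw [Pi.single_eq_same, Pi.zero_apply] at this
    exact one_ne_zero this
  choose c hc using fun i => hev (Pi.single i (1 : K)) (hs0 i)
  have hcc : ∀ i j, c i = c j := by
    intro i j
    by_cases hij : i = j
    · rw [hij]
    obtain ⟨d, hd⟩ := hev (Pi.single i (1 : K) + Pi.single j 1) (by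
      intro h
      have := congrFun h i
      rw [Pi.add_apply, Pi.single_eq_same, Pi.single_eq_of_ne hij, Pi.zero_apply, add_zero] at this
      exact one_ne_zero this)
    rw [Matrix.mulVec_add, hc, hc] at hd
    have h1 := congrFun hd i
    have h2 := congrFun hd j
    simp only [Pi.add_apply, Pi.smul_apply, Pi.single_eq_same, Pi.single_eq_of_ne hij,
      Pi.single_eq_of_ne (Ne.symm hij), smul_eq_mul, mul_one, mul_zero, add_zero, zero_add] at h1 h2
    rw [h1, h2]
  apply hx (c i0)
  ext i j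
  have h1 := congrFun (hc j) i
  rw [Matrix.mulVec_single_one, Matrix.col_apply, Pi.smul_apply] at h1
  rw [h1, Matrix.smul_apply, Matrix.one_apply, hcc j i0]
  by_cases hij : i = j
  · rw [hij, Pi.single_eq_same, if_pos rfl]
  · rw [Pi.single_eq_of_ne hij, if_neg hij]

/-- Some conjugate of a nonscalar matrix has a nonzero entry at a given place. -/
lemma exists_conj_entry {x : Matrix ι ι K} (hx : ∀ c : K, x ≠ c • (1 : Matrix ι ι K)) (k i : ι)
    (hcard : 2 ≤ Fintype.card ι) :
    ∃ m : GL ι K, (((m⁻¹ : GL ι K) : Matrix ι ι K) * x * (m : Matrix ι ι K)) k i ≠ 0 := by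
  obtain ⟨u, hu⟩ := exists_noneigen hx
  by_cases hki : k = i
  · subst hki
    obtain ⟨j, hj⟩ : ∃ j, j ≠ k := Fintype.exists_ne_of_one_lt_card (by omega) k
    have hu' : LinearIndependent K ![u, x *ᵥ u + u] := by
      rw [LinearIndependent.pair_iff] at hu ⊢
      intro s t hst
      have h1 := hu (s + t) t (by rw [← hst]; module)
      refine ⟨?_, h1.2⟩
      rw [h1.2, add_zero] at h1
      exact h1.1
    obtain ⟨m, hm1, hm2⟩ := exists_basis_pair hu' hj.symm
    refine ⟨m, ?_⟩
    have h3 : (((m⁻¹ : GL ι K) : Matrix ι ι K) * x * (m : Matrix ι ι K)) *ᵥ Pi.single k 1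
        = Pi.single j 1 - Pi.single k 1 := by
      rw [← Matrix.mulVec_mulVec, hm1, ← Matrix.mulVec_mulVec]
      have h4 : x *ᵥ u = (m : Matrix ι ι K) *ᵥ (Pi.single j 1 - Pi.single k 1) := by
        rw [Matrix.mulVec_sub, hm1, hm2, add_sub_cancel_right]
      rw [h4, Matrix.mulVec_mulVec, ← Units.val_mul, inv_mul_cancel, Units.val_one, Matrix.one_mulVec]
    have h5 := congrFun h3 k
    rw [Matrix.mulVec_single_one, Matrix.col_apply, Pi.sub_apply, Pi.single_eq_same, Pi.single_eq_of_ne hj.symm] at h5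
    rw [h5]
    simp
  · obtain ⟨m, hm1, hm2⟩ := exists_basis_pair hu (Ne.symm hki)
    refine ⟨m, ?_⟩
    have h3 : (((m⁻¹ : GL ι K) : Matrix ι ι K) * x * (m : Matrix ι ι K)) *ᵥ Pi.single i 1
        = Pi.single k 1 := by
      rw [← Matrix.mulVec_mulVec, hm1, ← Matrix.mulVec_mulVec, ← hm2, Matrix.mulVec_mulVec, ← Units.val_mul,
        inv_mul_cancel, Units.val_one, Matrix.one_mulVec]
    have h5 := congrFun h3 k
    rw [Matrix.mulVec_single_one, Matrix.col_apply, Pi.single_eq_same] at h5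
    rw [h5]
    exact one_ne_zero

end basis

section degree

variable {K σ ι : Type*} [Field K] [Fintype ι] [DecidableEq ι]

omit [DecidableEq ι] in
lemma tdeg_mul {A B : Matrix ι ι (MvPolynomial σ K)} {a b : ℕ} (hA : ∀ i j, (A i j).totalDegree ≤ a)
    (hB : ∀ i j, (B i j).totalDegree ≤ b) (i j : ι) : ((A * B) i j).totalDegree ≤ a + b := by
  rw [Matrix.mul_apply]
  refine MvPolynomial.totalDegree_finsetSum_le fun l _ => ?_
  exact (MvPolynomial.totalDegree_mul _ _).trans (Nat.add_le_add (hA i l) (hB l j))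

lemma tdeg_det {A : Matrix ι ι (MvPolynomial σ K)} (hA : ∀ i j, (A i j).totalDegree ≤ 1) :
    A.det.totalDegree ≤ Fintype.card ι := by
  rw [Matrix.det_apply]
  refine MvPolynomial.totalDegree_finsetSum_le fun τ _ => ?_
  have h1 : (∏ i, A (τ i) i).totalDegree ≤ Fintype.card ι := by
    refine (MvPolynomial.totalDegree_finsetProd _ _).trans ?_
    refine (Finset.sum_le_sum fun i _ => hA (τ i) i).trans ?_
    simp
  rcases Int.units_eq_one_or (Equiv.Perm.sign τ) with h | h
  · rw [h, one_smul]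
    exact h1
  · rw [h, Units.neg_smul, one_smul, MvPolynomial.totalDegree_neg]
    exact h1

lemma tdeg_adj {A : Matrix ι ι (MvPolynomial σ K)} (hA : ∀ i j, (A i j).totalDegree ≤ 1) (i j : ι) :
    (A.adjugate i j).totalDegree ≤ Fintype.card ι := by
  rw [Matrix.adjugate_apply]
  refine tdeg_det fun a b => ?_
  by_cases ha : a = j
  · subst ha
    rw [Matrix.updateRow_self]
    by_cases hb : b = i
    · subst hb
      rw [Pi.single_eq_same, MvPolynomial.totalDegree_one]
      exact Nat.zero_le _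
    · rw [Pi.single_eq_of_ne hb, MvPolynomial.totalDegree_zero]
      exact Nat.zero_le _
  · rw [Matrix.updateRow_ne ha]
    exact hA a b

/-- The polynomial of an entry of a conjugate. -/
noncomputable def entryPoly (h h' x : Matrix ι ι K) (k i : ι) : MvPolynomial (ι × ι) K :=
  ((h'.map MvPolynomial.C * (Matrix.mvPolynomialX ι ι K) * x.map MvPolynomial.C *
    (Matrix.mvPolynomialX ι ι K).adjugate * h.map MvPolynomial.C :
    Matrix ι ι (MvPolynomial (ι × ι) K))) k i

lemma entryPoly_eval (h h' x g : Matrix ι ι K) (k i : ι) :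
    MvPolynomial.eval (fun p : ι × ι => g p.1 p.2) (entryPoly h h' x k i) = (h' * g * x * g.adjugate * h) k i := by
  set f : MvPolynomial (ι × ι) K →+* K := MvPolynomial.eval (fun p : ι × ι => g p.1 p.2) with hf
  have h1 : f (entryPoly h h' x k i) = (f.mapMatrix ((h'.map MvPolynomial.C) * (Matrix.mvPolynomialX ι ι K) * (x.map MvPolynomial.C) *
    (Matrix.mvPolynomialX ι ι K).adjugate * (h.map MvPolynomial.C))) k i := rfl
  have hC : ∀ A : Matrix ι ι K, f.mapMatrix (A.map MvPolynomial.C) = A := by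
    intro A
    ext a b
    simp [hf]
  have hX : f.mapMatrix (Matrix.mvPolynomialX ι ι K) = g := Matrix.mvPolynomialX_mapMatrix_eval g
  rw [h1, map_mul, map_mul, map_mul, map_mul, RingHom.map_adjugate, hC, hC, hC, hX]

lemma entryPoly_deg (h h' x : Matrix ι ι K) (k i : ι) :
    (entryPoly h h' x k i).totalDegree ≤ Fintype.card ι + 1 := by
  have hC : ∀ A : Matrix ι ι K, ∀ i j, ((A.map (MvPolynomial.C : K → MvPolynomial (ι × ι) K)) i j).totalDegree ≤ 0 := by
    intro A i j
    rw [Matrix.map_apply, MvPolynomial.totalDegree_C]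
  have hX : ∀ i j, ((Matrix.mvPolynomialX ι ι K) i j).totalDegree ≤ 1 := by
    intro i j
    rw [Matrix.mvPolynomialX_apply]
    exact (MvPolynomial.totalDegree_X _).le
  have := tdeg_mul (tdeg_mul (tdeg_mul (tdeg_mul (hC h') hX) (hC x)) (tdeg_adj hX)) (hC h) k i
  calc (entryPoly h h' x k i).totalDegree ≤ 0 + 1 + 0 + Fintype.card ι + 0 := this
    _ = Fintype.card ι + 1 := by ring

lemma entryPoly_ne_zero {x : Matrix ι ι K} (hx : ∀ c : K, x ≠ c • (1 : Matrix ι ι K)) (h : GL ι K) (k i : ι)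
    (hcard : 2 ≤ Fintype.card ι) :
    entryPoly (h : Matrix ι ι K) ((h⁻¹ : GL ι K) : Matrix ι ι K) x k i ≠ 0 := by
  obtain ⟨m, hm⟩ := exists_conj_entry hx k i hcard
  intro h0
  set g : GL ι K := h * m⁻¹ with hg
  have h1 := entryPoly_eval (h : Matrix ι ι K) ((h⁻¹ : GL ι K) : Matrix ι ι K) x (g : Matrix ι ι K) k i
  rw [h0, map_zero] at h1
  have hadj : (g : Matrix ι ι K).adjugate = (g : Matrix ι ι K).det • ((g⁻¹ : GL ι K) : Matrix ι ι K) := by
    have h2 : (g : Matrix ι ι K) * ((g⁻¹ : GL ι K) : Matrix ι ι K) = 1 := by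
      rw [← Units.val_mul, mul_inv_cancel, Units.val_one]
    calc (g : Matrix ι ι K).adjugate = (g : Matrix ι ι K).adjugate * ((g : Matrix ι ι K) * ((g⁻¹ : GL ι K) : Matrix ι ι K)) := by
          rw [h2, mul_one]
      _ = ((g : Matrix ι ι K).adjugate * (g : Matrix ι ι K)) * ((g⁻¹ : GL ι K) : Matrix ι ι K) := by rw [mul_assoc]
      _ = _ := by rw [Matrix.adjugate_mul, Matrix.smul_mul, one_mul]
  have hdet : (g : Matrix ι ι K).det ≠ 0 := ((Matrix.isUnit_iff_isUnit_det _).1 g.isUnit).ne_zero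
  have h3 : ((h⁻¹ : GL ι K) : Matrix ι ι K) * (g : Matrix ι ι K) * x * (g : Matrix ι ι K).adjugate * (h : Matrix ι ι K)
      = (g : Matrix ι ι K).det • (((m⁻¹ : GL ι K) : Matrix ι ι K) * x * (m : Matrix ι ι K)) := by
    rw [hadj, Matrix.mul_smul, Matrix.smul_mul]
    congr 1
    have e1 : ((h⁻¹ : GL ι K) : Matrix ι ι K) * (g : Matrix ι ι K) = ((m⁻¹ : GL ι K) : Matrix ι ι K) := by
      rw [← Units.val_mul, hg, inv_mul_cancel_left]
    have e2 : ((g⁻¹ : GL ι K) : Matrix ι ι K) * (h : Matrix ι ι K) = (m : Matrix ι ι K) := by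
      rw [← Units.val_mul, hg, _root_.mul_inv_rev, inv_inv, inv_mul_cancel_right]
    rw [e1, mul_assoc, e2]
  rw [h3, Matrix.smul_apply, smul_eq_mul] at h1
  exact (mul_ne_zero hdet hm) h1.symm

end degree

section count

variable {F K ι : Type*} [Field F] [Fintype F] [Field K] [Algebra F K] [Fintype ι] [DecidableEq ι]

/-- The matrix of a conjugate of `x` in the basis `h`. -/
def cmat (x g : GL ι F) (h : GL ι K) : Matrix ι ι K :=
  ((h⁻¹ : GL ι K) : Matrix ι ι K) * ((g * x * g⁻¹ : GL ι F) : Matrix ι ι F).map (algebraMap F K) * (h : Matrix ι ι K)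

omit [Fintype F] [Fintype ι] in
lemma nonscalar_map {x : Matrix ι ι F} (hx : ∀ c : F, x ≠ c • (1 : Matrix ι ι F)) :
    ∀ c : K, x.map (algebraMap F K) ≠ c • (1 : Matrix ι ι K) := by
  intro c hc
  rcases isEmpty_or_nonempty ι with he | ⟨⟨i0⟩⟩
  · exact hx 0 (by ext i; exact (he.false i).elim)
  apply hx (x i0 i0)
  ext i j
  have h1 := congrFun (congrFun hc i) j
  have h0 := congrFun (congrFun hc i0) i0
  rw [Matrix.map_apply, Matrix.smul_apply, smul_eq_mul, Matrix.one_apply] at h1 h0
  rw [if_pos rfl, mul_one] at h0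
  rw [Matrix.smul_apply, Matrix.one_apply, smul_eq_mul]
  by_cases hij : i = j
  · rw [if_pos hij, mul_one] at h1 ⊢
    exact (algebraMap F K).injective (by rw [h1, h0])
  · rw [if_neg hij, mul_zero] at h1 ⊢
    exact (algebraMap F K).injective (by rw [h1, map_zero])

/-- Few conjugates of a nonscalar element have a zero at a given place. -/
lemma entry_count {x : GL ι F} (hx : ∀ c : F, (x : Matrix ι ι F) ≠ c • (1 : Matrix ι ι F)) (h : GL ι K) (k i : ι)
    (hcard : 2 ≤ Fintype.card ι) :
    Nat.card {g : GL ι F // cmat x g h k i = 0} * Fintype.card F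
      ≤ (Fintype.card ι + 1) * Fintype.card F ^ (Fintype.card ι ^ 2) := by
  have hne := entryPoly_ne_zero (nonscalar_map (K := K) hx) h k i hcard
  have hsz := sz (F := F) hne (entryPoly_deg _ _ _ _ _)
  have hle : Nat.card {g : GL ι F // cmat x g h k i = 0}
      ≤ Nat.card {v : ι × ι → F // MvPolynomial.eval (fun s => algebraMap F K (v s))
          (entryPoly (h : Matrix ι ι K) ((h⁻¹ : GL ι K) : Matrix ι ι K) ((x : Matrix ι ι F).map (algebraMap F K)) k i) = 0} := by
    refine Nat.card_le_card_of_injective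
      (fun g => ⟨fun p => (g.1 : Matrix ι ι F) p.1 p.2, ?_⟩) ?_
    · have hg := g.2
      have h1 := entryPoly_eval (h : Matrix ι ι K) ((h⁻¹ : GL ι K) : Matrix ι ι K) ((x : Matrix ι ι F).map (algebraMap F K))
        ((g.1 : Matrix ι ι F).map (algebraMap F K)) k i
      have h2 : (fun s : ι × ι => algebraMap F K ((fun p : ι × ι => (g.1 : Matrix ι ι F) p.1 p.2) s))
          = (fun p : ι × ι => ((g.1 : Matrix ι ι F).map (algebraMap F K)) p.1 p.2) := rfl
      rw [h2, h1]
      have hadj : ((g.1 : Matrix ι ι F).map (algebraMap F K)).adjugate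
          = (algebraMap F K (g.1 : Matrix ι ι F).det) • (((g.1)⁻¹ : GL ι F) : Matrix ι ι F).map (algebraMap F K) := by
        have h3 : (g.1 : Matrix ι ι F).adjugate = (g.1 : Matrix ι ι F).det • (((g.1)⁻¹ : GL ι F) : Matrix ι ι F) := by
          have h4 : (g.1 : Matrix ι ι F) * (((g.1)⁻¹ : GL ι F) : Matrix ι ι F) = 1 := by
            rw [← Units.val_mul, mul_inv_cancel, Units.val_one]
          calc (g.1 : Matrix ι ι F).adjugate = (g.1 : Matrix ι ι F).adjugate * ((g.1 : Matrix ι ι F) * (((g.1)⁻¹ : GL ι F) : Matrix ι ι F)) := by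
                rw [h4, mul_one]
            _ = ((g.1 : Matrix ι ι F).adjugate * (g.1 : Matrix ι ι F)) * (((g.1)⁻¹ : GL ι F) : Matrix ι ι F) := by rw [mul_assoc]
            _ = _ := by rw [Matrix.adjugate_mul, Matrix.smul_mul, one_mul]
        have h5 := RingHom.map_adjugate (algebraMap F K) (g.1 : Matrix ι ι F)
        rw [RingHom.mapMatrix_apply, RingHom.mapMatrix_apply] at h5
        rw [← h5, h3]
        ext a b
        simp
      rw [hadj, Matrix.mul_smul, Matrix.smul_mul, Matrix.smul_apply]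
      have h6 : ((h⁻¹ : GL ι K) : Matrix ι ι K) * (g.1 : Matrix ι ι F).map (algebraMap F K) * (x : Matrix ι ι F).map (algebraMap F K)
          * (((g.1)⁻¹ : GL ι F) : Matrix ι ι F).map (algebraMap F K) * (h : Matrix ι ι K) = cmat x g.1 h := by
        rw [cmat, Units.val_mul, Units.val_mul, Matrix.map_mul, Matrix.map_mul]
        noncomm_ring
      rw [h6, hg, smul_zero]
    · intro g g' hgg
      have h1 : (fun p : ι × ι => (g.1 : Matrix ι ι F) p.1 p.2) = (fun p : ι × ι => (g'.1 : Matrix ι ι F) p.1 p.2) :=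
        congrArg Subtype.val hgg
      apply Subtype.ext
      apply Units.ext
      ext a b
      exact congrFun h1 (a, b)
  calc Nat.card {g : GL ι F // cmat x g h k i = 0} * Fintype.card F
      ≤ _ := Nat.mul_le_mul_right _ hle
    _ ≤ _ := hsz
    _ = _ := by rw [Fintype.card_prod, sq]

/-- The off-diagonal entries of the conjugate of `x` and of its inverse in the basis `h` do not
vanish. -/
def Off (x g : GL ι F) (h : GL ι K) : Prop :=
  (∀ i j, i ≠ j → cmat x g h i j ≠ 0) ∧ (∀ i j, i ≠ j → cmat x⁻¹ g h i j ≠ 0) ∧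
    (Fintype.card ι = 2 → ∃ i, cmat x g h i i ≠ 0)

lemma not_off_count {x : GL ι F} (hx : ∀ c : F, (x : Matrix ι ι F) ≠ c • (1 : Matrix ι ι F)) (h : GL ι K)
    (hcard : 2 ≤ Fintype.card ι) :
    Nat.card {g : GL ι F // ¬ Off x g h} * Fintype.card F
      ≤ (2 * Fintype.card ι ^ 2 * (Fintype.card ι + 1)) * Fintype.card F ^ (Fintype.card ι ^ 2) := by
  classical
  have hx' : ∀ c : F, ((x⁻¹ : GL ι F) : Matrix ι ι F) ≠ c • (1 : Matrix ι ι F) := by
    intro c hc
    have h1 : (x : Matrix ι ι F) * ((x⁻¹ : GL ι F) : Matrix ι ι F) = 1 := by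
      rw [← Units.val_mul, mul_inv_cancel, Units.val_one]
    rw [hc, Matrix.mul_smul, mul_one] at h1
    have hc0 : c ≠ 0 := by
      rintro rfl
      rw [zero_smul] at h1
      have : Nonempty ι := Fintype.card_pos_iff.1 (by omega)
      exact zero_ne_one h1
    apply hx c⁻¹
    rw [← h1, smul_smul, inv_mul_cancel₀ hc0, one_smul]
  set z : Bool → GL ι F := fun b => if b then x else x⁻¹ with hz
  have hex : ∀ g : GL ι F, ¬ Off x g h → ∃ p : Bool × (ι × ι), cmat (z p.1) g h p.2.1 p.2.2 = 0 := by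
    intro g hg
    by_contra hcon
    push Not at hcon
    apply hg
    refine ⟨fun i j _ => hcon (true, (i, j)), fun i j _ => hcon (false, (i, j)), fun _ => ?_⟩
    obtain ⟨i⟩ : Nonempty ι := Fintype.card_pos_iff.1 (by omega)
    exact ⟨i, hcon (true, (i, i))⟩
  have hinj : Nat.card {g : GL ι F // ¬ Off x g h}
      ≤ Nat.card (Σ p : Bool × (ι × ι), {g : GL ι F // cmat (z p.1) g h p.2.1 p.2.2 = 0}) := by
    refine Nat.card_le_card_of_injective
      (fun g => ⟨(hex g.1 g.2).choose, ⟨g.1, (hex g.1 g.2).choose_spec⟩⟩) ?_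
    intro g g' hgg
    apply Subtype.ext
    have := (Sigma.mk.inj_iff.1 hgg)
    have h1 := this.1
    have h2 := this.2
    exact (congrArg (fun s : (Σ p : Bool × (ι × ι), {g : GL ι F // cmat (z p.1) g h p.2.1 p.2.2 = 0}) => s.2.1) hgg)
  have hsum : Nat.card (Σ p : Bool × (ι × ι), {g : GL ι F // cmat (z p.1) g h p.2.1 p.2.2 = 0})
      = ∑ p : Bool × (ι × ι), Nat.card {g : GL ι F // cmat (z p.1) g h p.2.1 p.2.2 = 0} := Nat.card_sigma
  rw [hsum] at hinj
  have hzs : ∀ b, ∀ c : F, (z b : Matrix ι ι F) ≠ c • (1 : Matrix ι ι F) := by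
    intro b
    cases b
    · exact hx'
    · exact hx
  calc Nat.card {g : GL ι F // ¬ Off x g h} * Fintype.card F
      ≤ (∑ p : Bool × (ι × ι), Nat.card {g : GL ι F // cmat (z p.1) g h p.2.1 p.2.2 = 0}) * Fintype.card F :=
        Nat.mul_le_mul_right _ hinj
    _ = ∑ p : Bool × (ι × ι), Nat.card {g : GL ι F // cmat (z p.1) g h p.2.1 p.2.2 = 0} * Fintype.card F := by
        rw [Finset.sum_mul]
    _ ≤ ∑ _p : Bool × (ι × ι), (Fintype.card ι + 1) * Fintype.card F ^ (Fintype.card ι ^ 2) :=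
        Finset.sum_le_sum fun p _ => entry_count (hzs p.1) h p.2.1 p.2.2 hcard
    _ = _ := by
        rw [Finset.sum_const, Finset.card_univ, Fintype.card_prod, Fintype.card_prod, Fintype.card_bool, smul_eq_mul]
        ring

omit [Fintype F] in
lemma cmat_eq (x g : GL ι F) (h : GL ι K) : cmat x g h =
    ((h⁻¹ : GL ι K) : Matrix ι ι K) * ((g * x * g⁻¹ : GL ι F) : Matrix ι ι F).map (algebraMap F K) * (h : Matrix ι ι K) := rfl

variable (K) in
/-- `y` is split over `K` with distinct ratios of eigenvalues. -/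
def Typ (y : GL ι F) : Prop :=
  ∃ (h : GL ι K) (l : ι → K), (y : Matrix ι ι F).map (algebraMap F K) * (h : Matrix ι ι K)
    = (h : Matrix ι ι K) * Matrix.diagonal l ∧
    (∀ i j k m, i ≠ j → (k, m) ≠ (i, j) → l k * (l m)⁻¹ ≠ l i * (l j)⁻¹)

variable (K) in
/-- `x` is in generic position with respect to `y`. -/
def Gen (x y : GL ι F) : Prop := ∃ (h : GL ι K) (l : ι → K), GPos x y h l

omit [Fintype F] in
lemma gen_conj {x y g : GL ι F} (H : Gen K (g * x * g⁻¹) y) : Gen K x (g⁻¹ * y * g) := by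
  obtain ⟨h, l, H⟩ := H
  set gK : GL ι K := Matrix.GeneralLinearGroup.map (algebraMap F K) g with hgK
  have hm : ∀ a : GL ι F, (Matrix.GeneralLinearGroup.map (algebraMap F K) a : GL ι K).1
      = (a : Matrix ι ι F).map (algebraMap F K) := fun a => rfl
  have key : ∀ z : GL ι F, (((gK⁻¹ * h)⁻¹ : GL ι K) : Matrix ι ι K) * (z : Matrix ι ι F).map (algebraMap F K)
      * ((gK⁻¹ * h : GL ι K) : Matrix ι ι K)
      = ((h⁻¹ : GL ι K) : Matrix ι ι K) * ((g * z * g⁻¹ : GL ι F) : Matrix ι ι F).map (algebraMap F K) * (h : Matrix ι ι K) := by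
    intro z
    rw [← hm z, ← hm (g * z * g⁻¹), ← Units.val_mul, ← Units.val_mul, ← Units.val_mul, ← Units.val_mul]
    congr 1
    rw [map_mul, map_mul, map_inv, ← hgK]
    group
  refine ⟨gK⁻¹ * h, l, ?_, H.ratio, ?_, ?_, ?_⟩
  · rw [← hm, Units.val_mul, ← mul_assoc, ← Units.val_mul, map_mul, map_mul, map_inv, ← hgK]
    have h1 := H.diag
    rw [← hm] at h1
    calc ((gK⁻¹ * Matrix.GeneralLinearGroup.map (algebraMap F K) y * gK * gK⁻¹ : GL ι K) : Matrix ι ι K) * (h : Matrix ι ι K)
        = ((gK⁻¹ : GL ι K) : Matrix ι ι K) * ((Matrix.GeneralLinearGroup.map (algebraMap F K) y : GL ι K).1 * (h : Matrix ι ι K)) := by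
          rw [mul_inv_cancel_right, Units.val_mul, mul_assoc]
      _ = ((gK⁻¹ : GL ι K) : Matrix ι ι K) * ((h : Matrix ι ι K) * Matrix.diagonal l) := by rw [h1]
      _ = _ := by rw [← mul_assoc]
  · intro i j hij
    rw [key]
    exact H.off i j hij
  · intro i j hij
    rw [key]
    have h1 := H.off' i j hij
    rwa [show (g * x * g⁻¹)⁻¹ = g * x⁻¹ * g⁻¹ by group] at h1
  · intro hc
    obtain ⟨i, hi⟩ := H.two hc
    exact ⟨i, by rw [key]; exact hi⟩

/-- **Averaged form**: few typical elements are not in generic position to a given nonscalar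
element. -/
theorem gen_count {x : GL ι F} (hx : ∀ c : F, (x : Matrix ι ι F) ≠ c • (1 : Matrix ι ι F))
    (hcard : 2 ≤ Fintype.card ι) (Y : Set (GL ι F)) (hY : ∀ y ∈ Y, ∀ g : GL ι F, g * y * g⁻¹ ∈ Y)
    (hYt : ∀ y ∈ Y, Typ K y) :
    Nat.card {y : GL ι F // y ∈ Y ∧ ¬ Gen K x y} * (Nat.card (GL ι F) * Fintype.card F)
      ≤ (2 * Fintype.card ι ^ 2 * (Fintype.card ι + 1)) * Fintype.card F ^ (Fintype.card ι ^ 2) * Nat.card Y := by
  classical
  -- the set of pairs
  have hbij : Nat.card {y : GL ι F // y ∈ Y ∧ ¬ Gen K x y} * Nat.card (GL ι F)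
      ≤ Nat.card (Σ y : Y, {g : GL ι F // ¬ Gen K (g * x * g⁻¹) y.1}) := by
    rw [mul_comm, ← Nat.card_prod]
    refine Nat.card_le_card_of_injective
      (fun p => ⟨⟨p.1 * p.2.1 * p.1⁻¹, hY _ p.2.2.1 _⟩, ⟨p.1, ?_⟩⟩) ?_
    · intro hG
      have h1 := gen_conj hG
      apply p.2.2.2
      convert h1 using 1
      group
    · rintro ⟨g, y⟩ ⟨g', y'⟩ h
      have h1 : g = g' := congrArg (fun s : (Σ y : Y, {g : GL ι F // ¬ Gen K (g * x * g⁻¹) y.1}) => s.2.1) h
      have h2 : g * y.1 * g⁻¹ = g' * y'.1 * g'⁻¹ :=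
        congrArg (fun s : (Σ y : Y, {g : GL ι F // ¬ Gen K (g * x * g⁻¹) y.1}) => s.1.1) h
      subst h1
      have h3 : y = y' := by
        apply Subtype.ext
        exact mul_left_cancel (mul_right_cancel h2)
      rw [h3]
  have hfib : ∀ y : Y, Nat.card {g : GL ι F // ¬ Gen K (g * x * g⁻¹) y.1} * Fintype.card F
      ≤ (2 * Fintype.card ι ^ 2 * (Fintype.card ι + 1)) * Fintype.card F ^ (Fintype.card ι ^ 2) := by
    intro y
    obtain ⟨h, l, hd, hr⟩ := hYt y.1 y.2
    refine le_trans (Nat.mul_le_mul_right _ ?_) (not_off_count hx h hcard)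
    refine Nat.card_le_card_of_injective (fun g => ⟨g.1, ?_⟩) ?_
    · intro hoff
      apply g.2
      refine ⟨h, l, hd, hr, hoff.1, ?_, hoff.2.2⟩
      intro i j hij
      have h1 := hoff.2.1 i j hij
      rw [cmat_eq] at h1
      rwa [show (g.1 * x * g.1⁻¹)⁻¹ = g.1 * x⁻¹ * g.1⁻¹ by group]
    · intro g g' hgg
      exact Subtype.ext (congrArg (fun s : {g : GL ι F // ¬ Off x g h} => s.1) hgg)
  have hYfin : Finite Y := inferInstance
  have : Fintype Y := Fintype.ofFinite Y
  calc Nat.card {y : GL ι F // y ∈ Y ∧ ¬ Gen K x y} * (Nat.card (GL ι F) * Fintype.card F)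
      = (Nat.card {y : GL ι F // y ∈ Y ∧ ¬ Gen K x y} * Nat.card (GL ι F)) * Fintype.card F := by ring
    _ ≤ Nat.card (Σ y : Y, {g : GL ι F // ¬ Gen K (g * x * g⁻¹) y.1}) * Fintype.card F :=
        Nat.mul_le_mul_right _ hbij
    _ = ∑ y : Y, Nat.card {g : GL ι F // ¬ Gen K (g * x * g⁻¹) y.1} * Fintype.card F := by
        rw [Nat.card_sigma, Finset.sum_mul]
    _ ≤ ∑ _y : Y, (2 * Fintype.card ι ^ 2 * (Fintype.card ι + 1)) * Fintype.card F ^ (Fintype.card ι ^ 2) :=
        Finset.sum_le_sum fun y _ => hfib y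
    _ = _ := by
        rw [Finset.sum_const, Finset.card_univ, smul_eq_mul, Nat.card_eq_fintype_card]
        ring

end count

end Cfsg.Agent.H872.GP
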